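import Mathlib

/-!
A group of order prime to three with an element of order three acting as one cubic block.

Basic counting with the weights of a four-group.
-/

set_option autoImplicit false
set_option linter.unusedSectionVars false
set_option linter.style.haveILetI false

namespace CfsgLib.CubicBlock

open Module
open scoped commutatorElement

section Kill

variable {L : Type*} [Group L] {W : Type*} [AddCommGroup W] [Module (ZMod 3) W]
variable (π : Representation (ZMod 3) L W)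

theorem apply_mul (x y : L) (v : W) : π (x * y) v = π x (π y v) := by
  rw [map_mul, Module.End.mul_apply]

theorem apply_inv_apply (x : L) (v : W) : π x⁻¹ (π x v) = v := by
  rw [← apply_mul π, inv_mul_cancel, map_one, Module.End.one_apply]

theorem apply_apply_inv (x : L) (v : W) : π x (π x⁻¹ v) = v := by
  rw [← apply_mul π, mul_inv_cancel, map_one, Module.End.one_apply]

theorem two_eq_neg_one : (2 : ZMod 3) = -1 := by decide

theorem smul_two (v : W) : (2 : ZMod 3) • v = -v := by rw [two_eq_neg_one, neg_one_smul]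

theorem three_nsmul (v : W) : v + v + v = 0 := by
  have h : ((1 : ZMod 3) + 1 + 1) • v = 0 := by
    rw [show (1 : ZMod 3) + 1 + 1 = 0 by decide, zero_smul]
  simpa [add_smul] using h

theorem eq_zero_of_self_eq_neg (v : W) (h : v = -v) : v = 0 := by
  have h3 := three_nsmul v
  have : v + v = 0 := by nth_rw 2 [h]; exact add_neg_cancel v
  rwa [this, zero_add] at h3

/-- An element trivial on a submodule modulo another. -/
def Triv (N : Submodule (ZMod 3) W) (x : L) : Prop := ∀ v ∈ N, π x v = v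

/-- An element trivial modulo a submodule. -/
def TrivMod (N : Submodule (ZMod 3) W) (x : L) : Prop := ∀ v, π x v - v ∈ N

theorem triv_mul {N : Submodule (ZMod 3) W} {x y : L} (hx : Triv π N x) (hy : Triv π N y) :
    Triv π N (x * y) := fun v hv => by rw [apply_mul, hy v hv, hx v hv]

theorem trivMod_mul {N : Submodule (ZMod 3) W} {x y : L} (hx : TrivMod π N x) (hy : TrivMod π N y) :
    TrivMod π N (x * y) := fun v => by
  have h := N.add_mem (hx (π y v)) (hy v)
  rw [apply_mul]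
  rwa [sub_add_sub_cancel] at h

theorem trivMod_inv {N : Submodule (ZMod 3) W} {x : L} (hx : TrivMod π N x) :
    TrivMod π N x⁻¹ := fun v => by
  have h := N.neg_mem (hx (π x⁻¹ v))
  rwa [apply_apply_inv, neg_sub] at h

/-- Elements trivial on `N` form a subgroup. -/
def trivGroup (N : Submodule (ZMod 3) W) : Subgroup L where
  carrier := {x | Triv π N x}
  one_mem' := fun v _ => by simp
  mul_mem' := triv_mul π
  inv_mem' := fun {x} hx v hv => by
    conv_lhs => rw [← hx v hv]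
    exact apply_inv_apply π x v

/-- Elements trivial modulo `N` form a subgroup. -/
def trivModGroup (N : Submodule (ZMod 3) W) : Subgroup L where
  carrier := {x | TrivMod π N x}
  one_mem' := fun v => by simp
  mul_mem' := trivMod_mul π
  inv_mem' := trivMod_inv π

theorem mem_trivGroup {N : Submodule (ZMod 3) W} {x : L} :
    x ∈ trivGroup π N ↔ ∀ v ∈ N, π x v = v := Iff.rfl

theorem mem_trivModGroup {N : Submodule (ZMod 3) W} {x : L} :
    x ∈ trivModGroup π N ↔ ∀ v, π x v - v ∈ N := Iff.rfl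

/-- Conjugates act alike on invariant submodules. -/
theorem trivGroup_normal {N : Submodule (ZMod 3) W} (hN : ∀ g : L, ∀ v ∈ N, π g v ∈ N) :
    (trivGroup π N).Normal :=
  ⟨fun x hx g v hv => by
    rw [apply_mul, apply_mul, hx _ (hN g⁻¹ v hv), apply_apply_inv]⟩

theorem trivModGroup_normal {N : Submodule (ZMod 3) W} (hN : ∀ g : L, ∀ v ∈ N, π g v ∈ N) :
    (trivModGroup π N).Normal :=
  ⟨fun x hx g v => by
    have h := hN g _ (hx (π g⁻¹ v))
    rw [map_sub, apply_apply_inv] at h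
    rwa [apply_mul, apply_mul]⟩

/-- An element whose cube is one, trivial on a submodule and modulo it after a coprime power. -/
theorem eq_id_of_triv_trivMod {N : Submodule (ZMod 3) W} {q : L} (hq : q ^ 2 = 1)
    (h1 : Triv π N q) (h2 : TrivMod π N q) (v : W) : π q v = v := by
  set w := π q v - v with hw
  have hwN : w ∈ N := h2 v
  have e1 : π q v = v + w := by rw [hw]; abel
  have e2 : π q (π q v) = v := by rw [← apply_mul, ← sq, hq, map_one, Module.End.one_apply]
  rw [e1, map_add, h1 w hwN, e1] at e2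
  have e3 : w + w = 0 := by
    have := sub_eq_zero.mpr e2
    rwa [add_assoc, add_sub_cancel_left] at this
  have e4 : w = 0 := eq_zero_of_self_eq_neg w (eq_neg_of_add_eq_zero_left e3)
  rw [e1, e4, add_zero]

end Kill

/-- The four group is three conjugate involutions and the identity. -/
theorem four_triple {L : Type*} [Group L] [Finite L] {b : L} (b3 : b ^ 3 = 1) {Q : Subgroup L}
    (Qcomm : ∀ x ∈ Q, ∀ y ∈ Q, x * y = y * x) (Qexp : ∀ x ∈ Q, x ^ 2 = 1) (Qcard : Nat.card Q = 4)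
    (Qnorm : ∀ x ∈ Q, b * x * b⁻¹ ∈ Q) (Qfix : ∀ x ∈ Q, b * x * b⁻¹ = x → x = 1) : ∃ a ∈ Q, a ≠ 1 ∧ b * a * b⁻¹ ≠ a ∧
    b * (b * a * b⁻¹) * b⁻¹ = a * (b * a * b⁻¹) ∧
    b * (a * (b * a * b⁻¹)) * b⁻¹ = a ∧
    ∀ x ∈ Q, x = 1 ∨ x = a ∨ x = b * a * b⁻¹ ∨ x = a * (b * a * b⁻¹) := by
  classical
  haveI : Nontrivial Q := Finite.one_lt_card_iff_nontrivial.mp (by rw [Qcard]; norm_num)
  obtain ⟨⟨a, ha⟩, hne⟩ := exists_ne (1 : Q)
  have ha1 : a ≠ 1 := fun e => hne (Subtype.ext e)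
  set a' := b * a * b⁻¹ with ha'
  have ha'Q : a' ∈ Q := Qnorm a ha
  have hne' : a' ≠ a := fun e => ha1 (Qfix a ha e)
  have ha'1 : a' ≠ 1 := fun e => ha1 (by
    rw [ha', conj_eq_one_iff] at e
    exact e)
  have hinv : ∀ x ∈ Q, x⁻¹ = x := fun x hx =>
    inv_eq_of_mul_eq_one_right (by rw [← sq, Qexp x hx])
  have hall : ∀ x ∈ Q, x = 1 ∨ x = a ∨ x = a' ∨ x = a * a' := by
    intro x hx
    by_contra hcon
    push Not at hcon
    obtain ⟨h1, h2, h3, h4⟩ := hcon
    have hm : a * a' ≠ 1 := fun e => hne' (by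
      rw [← hinv a ha]
      exact (inv_eq_of_mul_eq_one_right e).symm)
    have hma : a * a' ≠ a := fun e => ha'1 (mul_eq_left.mp e)
    have hma' : a * a' ≠ a' := fun e => ha1 (mul_eq_right.mp e)
    let f : Fin 5 → Q := ![1, ⟨a, ha⟩, ⟨a', ha'Q⟩, ⟨a * a', Q.mul_mem ha ha'Q⟩, ⟨x, hx⟩]
    have hf : Function.Injective f := by
      intro i j hij
      have hv := congrArg Subtype.val hij
      fin_cases i <;> fin_cases j <;>
        simp [f, ha1, ha1.symm, ha'1, ha'1.symm, hne', hne'.symm, hm, hm.symm, hma, hma.symm,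
          hma', hma'.symm, h1, h1.symm, h2, h2.symm, h3, h3.symm, h4, h4.symm] at hv ⊢
    have := Nat.card_le_card_of_injective f hf
    rw [Qcard, Nat.card_eq_fintype_card, Fintype.card_fin] at this
    omega
  have hb'' : b * a' * b⁻¹ = a * a' := by
    rcases hall _ (Qnorm a' ha'Q) with h | h | h | h
    · exact absurd (conj_eq_one_iff.mp h) ha'1
    · exfalso
      refine hne' ?_
      have e : b ^ 3 * a * (b ^ 3)⁻¹ = a' := by
        rw [show b ^ 3 * a * (b ^ 3)⁻¹ = b * (b * (b * a * b⁻¹) * b⁻¹) * b⁻¹ by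
          simp only [pow_succ, pow_zero]; group]
        rw [← ha', h]
      rw [b3, one_mul, inv_one, mul_one] at e
      exact e.symm
    · exact absurd (Qfix a' ha'Q h) ha'1
    · exact h
  refine ⟨a, ha, ha1, hne', hb'', ?_, hall⟩
  calc b * (a * a') * b⁻¹ = (b * a * b⁻¹) * (b * a' * b⁻¹) := by group
    _ = a' * (a * a') := by rw [hb'', ← ha']
    _ = a' * (a' * a) := by rw [Qcomm a ha a' ha'Q]
    _ = a := by rw [← mul_assoc, ← sq, Qexp a' ha'Q, one_mul]

/-- If the four group is nontrivial somewhere, there are vectors in its three weights. -/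
theorem four_weight {L : Type*} [Group L] [Finite L] {W : Type*} [AddCommGroup W] [Module (ZMod 3) W]
    (π : Representation (ZMod 3) L W) {b : L} (b3 : b ^ 3 = 1) {Q : Subgroup L}
    (Qcomm : ∀ x ∈ Q, ∀ y ∈ Q, x * y = y * x) (Qexp : ∀ x ∈ Q, x ^ 2 = 1) (Qcard : Nat.card Q = 4)
    (Qnorm : ∀ x ∈ Q, b * x * b⁻¹ ∈ Q) (Qfix : ∀ x ∈ Q, b * x * b⁻¹ = x → x = 1)
    {v : W} (h : ∃ x ∈ Q, π x v ≠ v) :
    ∃ a ∈ Q, ∃ u : W, u ≠ 0 ∧ u ∈ Submodule.span (ZMod 3) (Set.range fun x : Q => π x v) ∧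
      π a u = u ∧ π (b * a * b⁻¹) u = -u ∧ a ≠ 1 ∧ b * a * b⁻¹ ≠ a ∧
      b * (b * a * b⁻¹) * b⁻¹ = a * (b * a * b⁻¹) ∧
      b * (a * (b * a * b⁻¹)) * b⁻¹ = a := by
  obtain ⟨a, ha, ha1, hne, hb1, hb2, hall⟩ := four_triple b3 Qcomm Qexp Qcard Qnorm Qfix
  set a' := b * a * b⁻¹ with ha'
  have ha'Q : a' ∈ Q := Qnorm a ha
  have ha'' : a * a' ∈ Q := Q.mul_mem ha ha'Q
  have inv2 : ∀ x ∈ Q, ∀ w, π x (π x w) = w := fun x hx w => by
    rw [← apply_mul π, ← sq, Qexp x hx, map_one, Module.End.one_apply]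
  have hcomm : ∀ x ∈ Q, ∀ y ∈ Q, ∀ w, π x (π y w) = π y (π x w) := fun x hx y hy w => by
    rw [← apply_mul π, Qcomm x hx y hy, apply_mul]
  set sp := Submodule.span (ZMod 3) (Set.range fun x : Q => π x v) with hsp
  have hgen : ∀ x ∈ Q, π x v ∈ sp := fun x hx => Submodule.subset_span ⟨⟨x, hx⟩, rfl⟩
  have hv : v ∈ sp := by simpa using hgen 1 Q.one_mem
  have hcases : ∃ c ∈ [(a, a'), (a', a * a'), (a * a', a)],
      v + π c.1 v - (π c.2 v + π c.2 (π c.1 v)) ≠ 0 := by
    by_contra hcon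
    push Not at hcon
    have e1 := hcon (a, a') (by simp)
    have e2 := hcon (a', a * a') (by simp)
    have e3 := hcon (a * a', a) (by simp)
    simp only at e1 e2 e3
    have p1 : π a' (π a v) = π (a * a') v := by rw [hcomm a' ha'Q a ha, ← apply_mul π]
    have p2 : π (a * a') (π a' v) = π a v := by
      rw [← apply_mul π, mul_assoc, ← sq a', Qexp a' ha'Q, mul_one]
    have p3 : π a (π (a * a') v) = π a' v := by
      rw [← apply_mul π, ← mul_assoc, ← sq a, Qexp a ha, one_mul]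
    rw [p1] at e1
    rw [p2] at e2
    rw [p3] at e3
    set x := π a v
    set y := π a' v
    set z := π (a * a') v
    have exy : x = y := by
      refine sub_eq_zero.mp (eq_zero_of_self_eq_neg _ (eq_neg_of_add_eq_zero_left ?_))
      calc (x - y) + (x - y) = (v + x - (y + z)) - (v + y - (z + x)) := by abel
        _ = 0 := by rw [e1, e2, sub_zero]
    have eyz : y = z := by
      refine sub_eq_zero.mp (eq_zero_of_self_eq_neg _ (eq_neg_of_add_eq_zero_left ?_))
      calc (y - z) + (y - z) = (v + y - (z + x)) - (v + z - (x + y)) := by abel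
        _ = 0 := by rw [e2, e3, sub_zero]
    have hxy : x = v := by
      rw [← eyz, ← exy] at e1
      calc x = x + (v + x - (x + x)) := by rw [e1, add_zero]
        _ = v := by abel
    have hyv : y = v := exy ▸ hxy
    obtain ⟨q, hq, hqv⟩ := h
    rcases hall q hq with rfl | rfl | rfl | rfl
    · simp at hqv
    · exact hqv hxy
    · exact hqv hyv
    · apply hqv
      show z = v
      rw [← eyz]
      exact hyv
  obtain ⟨⟨c, d⟩, hc, hne0⟩ := hcases
  simp only [List.mem_cons, Prod.mk.injEq, List.not_mem_nil, or_false] at hc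
  have main : ∀ c d : L, c ∈ Q → d ∈ Q → c ≠ 1 → b * c * b⁻¹ = d → d ≠ c →
      b * d * b⁻¹ = c * d → b * (c * d) * b⁻¹ = c →
      v + π c v - (π d v + π d (π c v)) ≠ 0 →
      ∃ a ∈ Q, ∃ u : W, u ≠ 0 ∧ u ∈ sp ∧ π a u = u ∧ π (b * a * b⁻¹) u = -u ∧ a ≠ 1 ∧
        b * a * b⁻¹ ≠ a ∧
        b * (b * a * b⁻¹) * b⁻¹ = a * (b * a * b⁻¹) ∧
        b * (a * (b * a * b⁻¹)) * b⁻¹ = a := fun c d hcQ hdQ hc1 hcd hdc h1 h2 hne0 => by
    refine ⟨c, hcQ, v + π c v - (π d v + π d (π c v)), hne0, ?_, ?_, ?_, hc1, ?_, ?_, ?_⟩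
    · refine sp.sub_mem (sp.add_mem hv (hgen c hcQ)) (sp.add_mem (hgen d hdQ) ?_)
      rw [← apply_mul π]
      exact hgen _ (Q.mul_mem hdQ hcQ)
    · simp only [map_sub, map_add, inv2 c hcQ, hcomm c hcQ d hdQ]
      abel
    · rw [hcd]
      simp only [map_sub, map_add, inv2 d hdQ]
      abel
    · rwa [hcd]
    · rwa [hcd]
    · rwa [hcd]
  rcases hc with ⟨e₁, e₂⟩ | ⟨e₁, e₂⟩ | ⟨e₁, e₂⟩ <;> simp only [e₁, e₂] at hne0
  · exact main a a' ha ha'Q ha1 rfl hne hb1 hb2 hne0
  · refine main a' (a * a') ha'Q ha'' (fun e => ha1 (by rw [ha', conj_eq_one_iff] at e; exact e)) hb1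
      (fun e => ha1 (mul_eq_right.mp e)) ?_ ?_ hne0
    · rw [hb2, ← mul_assoc, Qcomm a' ha'Q a ha, mul_assoc, ← sq, Qexp a' ha'Q, mul_one]
    · rw [show a' * (a * a') = a from by
        rw [← mul_assoc, Qcomm a' ha'Q a ha, mul_assoc, ← sq, Qexp a' ha'Q, mul_one]]
  · refine main (a * a') a ha'' ha (fun e => hne (by
      rw [← inv_eq_of_mul_eq_one_right (show a * a = 1 by rw [← sq, Qexp a ha])]
      exact (inv_eq_of_mul_eq_one_right e).symm)) hb2 (fun e => ?_) ?_ ?_ hne0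
    · have : a' = 1 := mul_eq_left.mp e.symm
      rw [ha', conj_eq_one_iff] at this
      exact ha1 this
    · rw [show a * a' * a = a' from by
        rw [mul_assoc, Qcomm a' ha'Q a ha, ← mul_assoc, ← sq, Qexp a ha, one_mul]]
    · rw [show a * a' * a = a' from by
        rw [mul_assoc, Qcomm a' ha'Q a ha, ← mul_assoc, ← sq, Qexp a ha, one_mul]]
      exact hb1

/-- The setting: `L = R⟨b⟩` irreducible and faithful, `b` of rank two, `Q ≤ R` a four-group on
which `b` acts fixed-point-freely. -/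
structure Setting (L : Type*) [Group L] (W : Type*) [AddCommGroup W] [Module (ZMod 3) W] where
  /-- The representation. -/
  π : Representation (ZMod 3) L W
  faithful : Function.Injective π
  /-- The normal subgroup of order prime to three. -/
  R : Subgroup L
  normalR : R.Normal
  solvR : Group.IsSolvable R
  copR : (Nat.card R).Coprime 3
  /-- The element of order three. -/
  b : L
  b3 : b ^ 3 = 1
  gen : ∀ x : L, ∃ r ∈ R, ∃ i : ℕ, x = r * b ^ i
  commR : R = ⁅R, Subgroup.zpowers b⁆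
  irred : ∀ N : Submodule (ZMod 3) W, (∀ g : L, ∀ v ∈ N, π g v ∈ N) → N = ⊥ ∨ N = ⊤
  rank : finrank (ZMod 3) (LinearMap.range (π b - 1)) ≤ 2
  /-- The four-group. -/
  Q : Subgroup L
  hQR : Q ≤ R
  Qcomm : ∀ x ∈ Q, ∀ y ∈ Q, x * y = y * x
  Qexp : ∀ x ∈ Q, x ^ 2 = 1
  Qcard : Nat.card Q = 4
  Qnorm : ∀ x ∈ Q, b * x * b⁻¹ ∈ Q
  Qfix : ∀ x ∈ Q, b * x * b⁻¹ = x → x = 1

namespace Setting

variable {L : Type*} [Group L] [Finite L] {W : Type*} [AddCommGroup W] [Module (ZMod 3) W]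
  [Finite W] (S : Setting L W)

/-- Anything normal containing `b` contains `R`. -/
theorem R_le_of_b_mem {H : Subgroup L} [hH : H.Normal] (hb : S.b ∈ H) : S.R ≤ H := by
  rw [S.commR, Subgroup.commutator_le]
  intro r _ y hy
  have hyH : y ∈ H := (Subgroup.zpowers_le.mpr hb) hy
  rw [show ⁅r, y⁆ = r * y * r⁻¹ * y⁻¹ from rfl]
  exact H.mul_mem (hH.conj_mem y hyH r) (H.inv_mem hyH)

theorem top_of_R_le_b_mem {H : Subgroup L} (hR : S.R ≤ H) (hb : S.b ∈ H) : H = ⊤ := by
  refine eq_top_iff.mpr fun x _ => ?_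
  obtain ⟨r, hr, i, rfl⟩ := S.gen x
  exact H.mul_mem (hR hr) (H.pow_mem hb i)

theorem normalB_eq_top : Subgroup.normalClosure ({S.b} : Set L) = ⊤ :=
  have hb : S.b ∈ Subgroup.normalClosure ({S.b} : Set L) :=
    Subgroup.subset_normalClosure (Set.mem_singleton _)
  S.top_of_R_le_b_mem (S.R_le_of_b_mem hb) hb

/-- The four group is three conjugate involutions and the identity. -/
theorem exists_triple : ∃ a ∈ S.Q, a ≠ 1 ∧ S.b * a * S.b⁻¹ ≠ a ∧
    S.b * (S.b * a * S.b⁻¹) * S.b⁻¹ = a * (S.b * a * S.b⁻¹) ∧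
    S.b * (a * (S.b * a * S.b⁻¹)) * S.b⁻¹ = a ∧
    ∀ x ∈ S.Q, x = 1 ∨ x = a ∨ x = S.b * a * S.b⁻¹ ∨ x = a * (S.b * a * S.b⁻¹) :=
  four_triple S.b3 S.Qcomm S.Qexp S.Qcard S.Qnorm S.Qfix

/-- If the four group is nontrivial somewhere, there are vectors in its three weights. -/
theorem exists_weight {v : W} (h : ∃ x ∈ S.Q, S.π x v ≠ v) :
    ∃ a ∈ S.Q, ∃ u : W, u ≠ 0 ∧ u ∈ Submodule.span (ZMod 3) (Set.range fun x : S.Q => S.π x v) ∧
      S.π a u = u ∧ S.π (S.b * a * S.b⁻¹) u = -u ∧ a ≠ 1 ∧ S.b * a * S.b⁻¹ ≠ a ∧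
      S.b * (S.b * a * S.b⁻¹) * S.b⁻¹ = a * (S.b * a * S.b⁻¹) ∧
      S.b * (a * (S.b * a * S.b⁻¹)) * S.b⁻¹ = a :=
  four_weight S.π S.b3 S.Qcomm S.Qexp S.Qcard S.Qnorm S.Qfix h

/-- Any two distinct involutions of the four-group generate it. -/
theorem eq_of_pair {a : L} (ha : a ∈ S.Q) (ha1 : a ≠ 1) (hne : S.b * a * S.b⁻¹ ≠ a) :
    ∀ x ∈ S.Q, x = 1 ∨ x = a ∨ x = S.b * a * S.b⁻¹ ∨ x = a * (S.b * a * S.b⁻¹) := by
  obtain ⟨a₀, ha₀, -, -, h1, h2, hall⟩ := S.exists_triple
  set a₁ := S.b * a₀ * S.b⁻¹ with ha₁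
  have hc := S.Qcomm a₀ ha₀ a₁ (S.Qnorm a₀ ha₀)
  have hsq : a₀ * a₀ = 1 := by rw [← sq, S.Qexp a₀ ha₀]
  have hsq' : a₁ * a₁ = 1 := by rw [← sq, S.Qexp a₁ (S.Qnorm a₀ ha₀)]
  intro x hx
  rcases hall a ha with rfl | rfl | rfl | rfl
  · exact absurd rfl ha1
  · exact hall x hx
  · rcases hall x hx with rfl | rfl | rfl | rfl
    · exact Or.inl rfl
    · right; right; right
      rw [h1, hc, ← mul_assoc, hsq', one_mul]
    · exact Or.inr (Or.inl rfl)
    · right; right; left; exact h1.symm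
  · rcases hall x hx with rfl | rfl | rfl | rfl
    · exact Or.inl rfl
    · right; right; left; exact h2.symm
    · right; right; right
      rw [h2, hc, mul_assoc, hsq, mul_one]
    · exact Or.inr (Or.inl rfl)

end Setting

end CfsgLib.CubicBlock
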