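import Cfsg.Agent.Lib.CubicBlock.Rank

/-!
An abelian normal subgroup inside the kernel of order prime to three either acts by signs or
splits the space into lines.
-/

set_option autoImplicit false
set_option linter.unusedSectionVars false
set_option linter.style.haveILetI false

namespace CfsgLib.CubicBlock

open Module
open scoped commutatorElement

theorem zmod_three_cases (l : ZMod 3) : l = 0 ∨ l = 1 ∨ l = -1 := by
  revert l; decide

namespace Setting

variable {L : Type*} [Group L] [Finite L] {W : Type*} [AddCommGroup W] [Module (ZMod 3) W]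
  [Finite W] (S : Setting L W)

/-- The span of a subgroup of operators. -/
def alg (M : Subgroup L) : Subalgebra (ZMod 3) (Module.End (ZMod 3) W) :=
  Algebra.adjoin (ZMod 3) (S.π '' (M : Set L))

theorem mem_alg {M : Subgroup L} {x : L} (hx : x ∈ M) : S.π x ∈ S.alg M :=
  Algebra.subset_adjoin ⟨x, hx, rfl⟩

theorem alg_comm {M : Subgroup L} (hM : ∀ x ∈ M, ∀ y ∈ M, x * y = y * x)
    {a c : Module.End (ZMod 3) W} (ha : a ∈ S.alg M) (hc : c ∈ S.alg M) : a * c = c * a := by
  induction hc using Algebra.adjoin_induction with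
  | mem c hc =>
    induction ha using Algebra.adjoin_induction with
    | mem a ha =>
      obtain ⟨x, hx, rfl⟩ := ha
      obtain ⟨y, hy, rfl⟩ := hc
      rw [← map_mul, hM x hx y hy, map_mul]
    | algebraMap r => exact Algebra.commutes r c
    | add a a' _ _ h1 h2 => rw [add_mul, h1, h2, mul_add]
    | mul a a' _ _ h1 h2 => rw [mul_assoc, h2, ← mul_assoc, h1, mul_assoc]
  | algebraMap r => exact (Algebra.commutes r a).symm
  | add c c' _ _ h1 h2 => rw [mul_add, h1, h2, add_mul]
  | mul c c' _ _ h1 h2 => rw [← mul_assoc, h1, mul_assoc, h2, mul_assoc]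

theorem alg_frobenius {M : Subgroup L} (hMR : M ≤ S.R) (hM : ∀ x ∈ M, ∀ y ∈ M, x * y = y * x) :
    ∃ q : ℕ, 2 ≤ q ∧ ∀ a ∈ S.alg M, a ^ q = a := by
  haveI : Nontrivial W := by
    obtain ⟨v, x, -, hx⟩ := S.exists_moved
    exact ⟨⟨_, _, hx⟩⟩
  haveI : CharP (Module.End (ZMod 3) W) 3 :=
    charP_of_injective_algebraMap (algebraMap (ZMod 3) (Module.End (ZMod 3) W)).injective 3
  haveI : Fact (Nat.Prime 3) := ⟨Nat.prime_three⟩
  set N := (Nat.card M).totient with hN
  have hN0 : 0 < N := Nat.totient_pos.mpr Nat.card_pos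
  have hcop : (3 : ℕ).Coprime (Nat.card M) :=
    (S.copR.coprime_dvd_left (Subgroup.card_dvd_of_le hMR)).symm
  have hmod : 3 ^ N ≡ 1 [MOD Nat.card M] := Nat.ModEq.pow_totient hcop
  refine ⟨3 ^ N, le_trans (by norm_num) (Nat.le_self_pow hN0.ne' 3), fun a ha => ?_⟩
  induction ha using Algebra.adjoin_induction with
  | mem a ha =>
    obtain ⟨x, hx, rfl⟩ := ha
    rw [← map_pow]
    congr 1
    have h1 : x ^ 3 ^ N = x ^ 1 := by
      refine pow_eq_pow_iff_modEq.mpr (hmod.of_dvd ?_)
      rw [← Subgroup.orderOf_mk x hx]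
      exact orderOf_dvd_natCard _
    rw [h1, pow_one]
  | algebraMap r => rw [← map_pow, ZMod.pow_card_pow]
  | add a a' ha ha' h1 h2 => rw [add_pow_char_pow_of_commute _ _ (S.alg_comm hM ha ha'), h1, h2]
  | mul a a' ha ha' h1 h2 => rw [Commute.mul_pow (S.alg_comm hM ha ha'), h1, h2]

theorem alg_conj {M : Subgroup L} [hMn : M.Normal] (g : L) {a : Module.End (ZMod 3) W}
    (ha : a ∈ S.alg M) : S.π g * a * S.π g⁻¹ ∈ S.alg M := by
  have hgg : S.π g * S.π g⁻¹ = 1 := by rw [← map_mul, mul_inv_cancel, map_one]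
  have hgg' : S.π g⁻¹ * S.π g = 1 := by rw [← map_mul, inv_mul_cancel, map_one]
  induction ha using Algebra.adjoin_induction with
  | mem a ha =>
    obtain ⟨x, hx, rfl⟩ := ha
    rw [← map_mul, ← map_mul]
    exact S.mem_alg (hMn.conj_mem x hx g)
  | algebraMap r =>
    rw [← Algebra.commutes r (S.π g), mul_assoc, hgg, mul_one]
    exact Subalgebra.algebraMap_mem _ r
  | add a a' _ _ h1 h2 => rw [mul_add, add_mul]; exact (S.alg M).add_mem h1 h2
  | mul a a' _ _ h1 h2 =>
    have := (S.alg M).mul_mem h1 h2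
    rwa [show S.π g * a * S.π g⁻¹ * (S.π g * a' * S.π g⁻¹) = S.π g * (a * a') * S.π g⁻¹ by
      simp only [mul_assoc]
      rw [← mul_assoc (S.π g⁻¹) (S.π g), hgg', one_mul]] at this

/-- A minimal idempotent. -/
def MinIdem (M : Subgroup L) (e : Module.End (ZMod 3) W) : Prop :=
  e ∈ S.alg M ∧ e * e = e ∧ e ≠ 0 ∧ ∀ f ∈ S.alg M, f * f = f → f * e = 0 ∨ f * e = e

theorem exists_minIdem_below {M : Subgroup L} (hM : ∀ x ∈ M, ∀ y ∈ M, x * y = y * x) :
    ∀ (n : ℕ) (r : Module.End (ZMod 3) W), r ∈ S.alg M → r * r = r → r ≠ 0 →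
      Nat.card (LinearMap.range r) ≤ n → ∃ e, S.MinIdem M e ∧ e * r = e := by
  intro n
  induction n with
  | zero =>
    intro r _ _ _ h
    exact absurd (Nat.le_zero.mp h) Nat.card_pos.ne'
  | succ n ih =>
    intro r hr hrr hr0 hn
    by_cases hmin : ∀ f ∈ S.alg M, f * f = f → f * r = 0 ∨ f * r = r
    · exact ⟨r, ⟨hr, hrr, hr0, hmin⟩, hrr⟩
    push Not at hmin
    obtain ⟨f, hf, hff, h0, h1⟩ := hmin
    have hc : f * r = r * f := S.alg_comm hM hf hr
    have hidem : (f * r) * (f * r) = f * r := by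
      rw [mul_assoc, ← mul_assoc r f r, ← hc, mul_assoc f r r, hrr, ← mul_assoc, hff]
    have hlt : Nat.card (LinearMap.range (f * r)) < Nat.card (LinearMap.range r) := by
      have hle : LinearMap.range (f * r) ≤ LinearMap.range r := by
        rw [hc]
        exact LinearMap.range_comp_le_range f r
      have hne : LinearMap.range (f * r) ≠ LinearMap.range r := by
        intro he
        apply h1
        ext v
        have hv : r v ∈ LinearMap.range (f * r) := he ▸ LinearMap.mem_range_self r v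
        obtain ⟨w, hw⟩ := hv
        rw [Module.End.mul_apply, ← hw, Module.End.mul_apply, ← Module.End.mul_apply f f, hff]
      exact Set.ncard_lt_ncard (SetLike.coe_ssubset_coe.mpr (lt_of_le_of_ne hle hne)) (Set.toFinite _) |>.trans_eq rfl
    obtain ⟨e, he, her⟩ := ih (f * r) ((S.alg M).mul_mem hf hr) hidem h0 (by omega)
    refine ⟨e, he, ?_⟩
    conv_lhs => rw [← her]
    rw [mul_assoc, mul_assoc f r r, hrr, her]

/-- Signs, or a line decomposition permuted by the group and moved by `b`. -/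
def Monomial : Prop :=
  ∃ (ι : Type) (_ : Fintype ι) (v : Basis ι (ZMod 3) W),
    (∀ (g : L) (i : ι), ∃ j, S.π g (v i) = v j ∨ S.π g (v i) = -v j) ∧
    (∀ i j : ι, ∃ g : L, S.π g (v i) = v j ∨ S.π g (v i) = -v j) ∧
    ∃ i : ι, S.π S.b (v i) ≠ v i ∧ S.π S.b (v i) ≠ -v i

theorem monomial_of_moved {M : Subgroup L} [M.Normal] (hM : ∀ x ∈ M, ∀ y ∈ M, x * y = y * x)
    {e : Module.End (ZMod 3) W} (he : S.MinIdem M e) (hb : S.π S.b * e * S.π S.b⁻¹ ≠ e) :
    S.Monomial := by
  classical
  haveI : Module.Finite (ZMod 3) W := Module.Finite.of_finite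
  obtain ⟨heA, hee, he0, hemin⟩ := he
  let cj : L → Module.End (ZMod 3) W := fun g => S.π g * e * S.π g⁻¹
  have hgg : ∀ g : L, S.π g * S.π g⁻¹ = 1 := fun g => by rw [← map_mul, mul_inv_cancel, map_one]
  have hcj_idem : ∀ g, cj g * cj g = cj g := fun g => by
    show S.π g * e * S.π g⁻¹ * (S.π g * e * S.π g⁻¹) = S.π g * e * S.π g⁻¹
    simp only [mul_assoc]
    rw [← mul_assoc (S.π g⁻¹) (S.π g), ← map_mul, inv_mul_cancel, map_one, one_mul,
      ← mul_assoc e e, hee]
  have hcj_comp : ∀ g h, S.π g * cj h * S.π g⁻¹ = cj (g * h) := fun g h => by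
    show S.π g * (S.π h * e * S.π h⁻¹) * S.π g⁻¹ = S.π (g * h) * e * S.π (g * h)⁻¹
    rw [mul_inv_rev, map_mul, map_mul]
    simp only [mul_assoc]
  have horth : ∀ g h, cj g ≠ cj h → cj g * cj h = 0 := by
    intro g h hne
    have key : ∀ k, cj k * e = 0 ∨ cj k * e = e := fun k =>
      hemin _ (S.alg_conj k heA) (hcj_idem k)
    have key' : ∀ k, cj k * e = e → cj k = e := by
      intro k hk
      have h4 : S.π k * (cj k⁻¹ * e) * S.π k⁻¹ = e * cj k := by
        show S.π k * (S.π k⁻¹ * e * S.π k⁻¹⁻¹ * e) * S.π k⁻¹ = e * (S.π k * e * S.π k⁻¹)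
        rw [inv_inv]
        simp only [← mul_assoc, hgg, one_mul]
      rw [S.alg_comm hM heA (S.alg_conj k heA), hk] at h4
      rcases key k⁻¹ with h2 | h2 <;> rw [h2] at h4
      · rw [mul_zero, zero_mul] at h4
        exact absurd h4.symm he0
      · exact h4
    have h1 : cj g * cj h = S.π h * (cj (h⁻¹ * g) * e) * S.π h⁻¹ := by
      conv_lhs => rw [show g = h * (h⁻¹ * g) by group, ← hcj_comp]
      show S.π h * cj (h⁻¹ * g) * S.π h⁻¹ * (S.π h * e * S.π h⁻¹) = _
      simp only [mul_assoc]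
      rw [← mul_assoc (S.π h⁻¹) (S.π h), ← map_mul, inv_mul_cancel, map_one, one_mul]
    rcases key (h⁻¹ * g) with h2 | h2
    · rw [h1, h2, mul_zero, zero_mul]
    · exfalso
      apply hne
      rw [show g = h * (h⁻¹ * g) by group, ← hcj_comp, key' _ h2]
  -- the range of `e` is a line
  have hcj1 : cj 1 = e := by
    show S.π 1 * e * S.π 1⁻¹ = e
    rw [inv_one, map_one, one_mul, mul_one]
  have hb2 : cj (S.b * S.b) ≠ e := by
    intro h
    apply hb
    have h' : cj (S.b * (S.b * S.b)) = cj S.b := by rw [← hcj_comp, h]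
    rw [show S.b * (S.b * S.b) = 1 by rw [← mul_assoc, ← sq, ← pow_succ, S.b3], hcj1] at h'
    exact h'.symm
  have hfix : ∀ g v, cj g (S.π g (e v)) = S.π g (e v) := fun g v => by
    show (S.π g * e * S.π g⁻¹) (S.π g (e v)) = _
    rw [Module.End.mul_apply, Module.End.mul_apply, apply_inv_apply, ← Module.End.mul_apply e e, hee]
  have hkill : ∀ g h v, cj g ≠ cj h → cj g (S.π h (e v)) = 0 := fun g h v hne => by
    rw [← hfix h v, ← Module.End.mul_apply, horth g h hne, LinearMap.zero_apply]
  obtain ⟨w0, hw0⟩ : ∃ w0, e w0 ≠ 0 := by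
    by_contra! hcon
    exact he0 (LinearMap.ext hcon)
  set u := e w0 with hu
  have eu : e u = u := by rw [hu, ← Module.End.mul_apply, hee]
  have hline : ∀ v, ∃ c : ZMod 3, e v = c • u := by
    intro v
    by_contra! hcon
    have k0 : e (S.π S.b (e v)) = 0 := by
      have := hkill 1 S.b v (by rw [hcj1]; exact Ne.symm hb)
      rwa [hcj1] at this
    have k1 : e (S.π S.b u) = 0 := by
      have := hkill 1 S.b w0 (by rw [hcj1]; exact Ne.symm hb)
      rwa [hcj1] at this
    have k2 : e (S.π S.b (S.π S.b u)) = 0 := by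
      have := hkill 1 (S.b * S.b) w0 (by rw [hcj1]; exact Ne.symm hb2)
      rwa [hcj1, apply_mul] at this
    have k3 : e (e v) = e v := by rw [← Module.End.mul_apply, hee]
    refine no_three S.π S.rank ![S.π S.b u - u, S.π S.b (e v) - e v, S.π S.b (S.π S.b u) - S.π S.b u]
      (fun i => by fin_cases i <;> exact sub_one_mem S.π _ _) (linearIndependent_three ?_)
    intro α β γ hsum
    have e1 := congrArg e hsum
    simp only [map_add, map_sub, map_smul, k0, k1, k2, k3, eu, zero_sub, sub_zero, smul_zero, add_zero,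
      map_zero, smul_neg] at e1
    rw [← neg_add, neg_eq_zero] at e1
    have hβ : β = 0 := by
      by_contra hβ
      refine hcon (-(β⁻¹ * α)) ?_
      rw [neg_smul, mul_smul, eq_neg_iff_add_eq_zero]
      calc e v + β⁻¹ • α • u = β⁻¹ • (α • u + β • e v) := by
            rw [smul_add, inv_smul_smul₀ hβ, add_comm]
        _ = 0 := by rw [e1, smul_zero]
    subst hβ
    rw [zero_smul, add_zero] at hsum e1
    have hα : α = 0 := (smul_eq_zero.mp e1).resolve_right hw0
    subst hα
    rw [zero_smul, zero_add] at hsum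
    have e2 := congrArg (fun w => e (S.π S.b⁻¹ w)) hsum
    simp only [map_sub, map_smul, apply_inv_apply, k1, eu, zero_sub, smul_neg, map_zero,
      neg_eq_zero] at e2
    exact ⟨rfl, rfl, (smul_eq_zero.mp e2).resolve_right hw0⟩
  -- representatives
  let J := Set.range cj
  haveI : Finite (Module.End (ZMod 3) W) := Module.finite_of_finite (ZMod 3)
  let ι := Fin (Nat.card J)
  let ix : ι ≃ J := (Finite.equivFin J).symm
  choose rep hrep using fun f : J => f.2
  let vec : ι → W := fun i => S.π (rep (ix i)) u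
  have hpm : ∀ g i, cj g = (ix i : Module.End (ZMod 3) W) →
      S.π g u = vec i ∨ S.π g u = -vec i := by
    intro g i hgi
    set h := rep (ix i) with hh
    have hcjh : cj (h⁻¹ * g) = e := by
      rw [← hcj_comp, hgi, ← hrep (ix i), hcj_comp, inv_mul_cancel, hcj1]
    obtain ⟨c, hc⟩ := hline (S.π (h⁻¹ * g) u)
    have hmem : e (S.π (h⁻¹ * g) u) = S.π (h⁻¹ * g) u := by
      conv_lhs => rw [← hcjh, hu]
      rw [hfix]
    rw [hmem] at hc
    have hg : S.π g u = c • vec i := by
      calc S.π g u = S.π h (S.π (h⁻¹ * g) u) := by rw [← apply_mul, mul_inv_cancel_left]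
        _ = c • vec i := by rw [hc, map_smul]
    rcases zmod_three_cases c with rfl | rfl | rfl
    · exfalso
      rw [zero_smul] at hg
      exact hw0 (by rw [← apply_inv_apply S.π g u, hg, map_zero])
    · exact Or.inl (by rw [hg, one_smul])
    · exact Or.inr (by rw [hg, neg_one_smul])
  have hind : LinearIndependent (ZMod 3) vec := by
    rw [Fintype.linearIndependent_iff]
    intro c hc i
    have h1 := congrArg (ix i : Module.End (ZMod 3) W) hc
    rw [map_sum, Finset.sum_eq_single i] at h1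
    · rw [map_smul, map_zero, ← hrep (ix i)] at h1
      have : cj (rep (ix i)) (vec i) = vec i := hfix _ w0
      rw [this] at h1
      refine (smul_eq_zero.mp h1).resolve_right fun h0 => hw0 ?_
      rw [← apply_inv_apply S.π (rep (ix i)) u]
      exact (congrArg (S.π (rep (ix i))⁻¹) h0).trans (map_zero _)
    · intro j _ hji
      rw [map_smul, ← hrep (ix i)]
      rw [show cj (rep (ix i)) (vec j) = 0 from hkill _ _ w0 (fun heq => hji (ix.injective
        (Subtype.ext (by rw [← hrep (ix i), ← hrep (ix j)]; exact heq.symm)))), smul_zero]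
    · exact fun h => absurd (Finset.mem_univ i) h
  have hgen : ∀ g, ∃ i, cj g = (ix i : Module.End (ZMod 3) W) :=
    fun g => ⟨ix.symm ⟨_, g, rfl⟩, by rw [Equiv.apply_symm_apply]⟩
  have hspan : ⊤ ≤ Submodule.span (ZMod 3) (Set.range vec) := by
    set T := Submodule.span (ZMod 3) (Set.range vec) with hT
    have hmem : ∀ g, S.π g u ∈ T := by
      intro g
      obtain ⟨i, hi⟩ := hgen g
      rcases hpm g i hi with h | h
      · rw [h]; exact Submodule.subset_span ⟨i, rfl⟩
      · rw [h]; exact T.neg_mem (Submodule.subset_span ⟨i, rfl⟩)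
    have hinv : ∀ g : L, ∀ v ∈ T, S.π g v ∈ T := by
      intro g v hv
      induction hv using Submodule.span_induction with
      | mem v hv => obtain ⟨i, rfl⟩ := hv; rw [← apply_mul]; exact hmem _
      | zero => rw [map_zero]; exact T.zero_mem
      | add x y _ _ h1 h2 => rw [map_add]; exact T.add_mem h1 h2
      | smul c x _ h => rw [map_smul]; exact T.smul_mem c h
    rcases S.irred T hinv with h | h
    · exfalso
      have := hmem 1
      rw [h, Submodule.mem_bot, map_one] at this
      exact hw0 this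
    · rw [h]
  refine ⟨ι, inferInstance, Basis.mk hind hspan, fun g i => ?_, fun i j => ?_, ?_⟩
  · simp only [Basis.mk_apply]
    obtain ⟨j, hj⟩ := hgen (g * rep (ix i))
    refine ⟨j, ?_⟩
    show S.π g (S.π _ u) = _ ∨ _
    rw [← apply_mul]
    exact hpm _ j hj
  · simp only [Basis.mk_apply]
    refine ⟨rep (ix j) * (rep (ix i))⁻¹, Or.inl ?_⟩
    show S.π _ (S.π _ u) = S.π _ u
    rw [← apply_mul, inv_mul_cancel_right]
  · obtain ⟨i, hi⟩ := hgen 1
    refine ⟨i, ?_⟩
    simp only [Basis.mk_apply]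
    have hbu : S.π S.b u ≠ u ∧ S.π S.b u ≠ -u := by
      have k : e (S.π S.b u) = 0 := by
        have := hkill 1 S.b w0 (by rw [hcj1]; exact Ne.symm hb)
        rwa [hcj1] at this
      constructor <;> intro h <;> rw [h] at k
      · exact hw0 (eu ▸ k)
      · rw [map_neg, eu, neg_eq_zero] at k; exact hw0 k
    have h1 := hpm 1 i hi
    rw [map_one, Module.End.one_apply] at h1
    rcases h1 with h | h
    · rw [← h]; exact hbu
    · rw [show vec i = -u by rw [h, neg_neg]]
      rw [map_neg, neg_neg]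
      exact ⟨fun h => hbu.1 (neg_injective h), fun h => hbu.2 (neg_eq_iff_eq_neg.mp h)⟩

/-- The operators of the kernel commute with `A` if `A` is a finite domain. -/
theorem R_le_centralizer {M : Subgroup L} [hMn : M.Normal] (hM : ∀ x ∈ M, ∀ y ∈ M, x * y = y * x)
    (hdom : ∀ a ∈ S.alg M, ∀ c ∈ S.alg M, a * c = 0 → a = 0 ∨ c = 0) {r : L} (hr : r ∈ S.R)
    {a : Module.End (ZMod 3) W} (ha : a ∈ S.alg M) : S.π r * a = a * S.π r := by
  classical
  haveI : Nontrivial W := by
    obtain ⟨v, x, -, hx⟩ := S.exists_moved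
    exact ⟨⟨_, _, hx⟩⟩
  haveI : Module.Finite (ZMod 3) W := Module.Finite.of_finite
  haveI : Finite (Module.End (ZMod 3) W) := Module.finite_of_finite (ZMod 3)
  letI : CommRing (S.alg M) :=
    { (inferInstance : Ring (S.alg M)) with
      mul_comm := fun x y => Subtype.ext (S.alg_comm hM x.2 y.2) }
  haveI : Nontrivial (S.alg M) := ⟨⟨0, 1, fun h => zero_ne_one (congrArg Subtype.val h)⟩⟩
  haveI : NoZeroDivisors (S.alg M) := ⟨fun {x y} h => by
    rcases hdom _ x.2 _ y.2 (congrArg Subtype.val h) with h | h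
    · exact Or.inl (Subtype.ext h)
    · exact Or.inr (Subtype.ext h)⟩
  haveI : IsDomain (S.alg M) := NoZeroDivisors.to_isDomain _
  obtain ⟨ζ, hζ⟩ := IsCyclic.exists_generator (α := (S.alg M)ˣ)
  let z : Module.End (ZMod 3) W := ((ζ : S.alg M) : Module.End (ZMod 3) W)
  have hpow : ∀ c ∈ S.alg M, c ≠ 0 → ∃ i : ℕ, c = z ^ i := by
    intro c hc hc0
    have hu : IsUnit (⟨c, hc⟩ : S.alg M) :=
      (Finite.isField_of_domain (S.alg M)).mul_inv_cancel (fun h => hc0 (congrArg Subtype.val h))
        |>.elim fun y hy => IsUnit.of_mul_eq_one y hy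
    obtain ⟨i, hi⟩ := mem_powers_iff_mem_zpowers.mpr (hζ hu.unit)
    refine ⟨i, ?_⟩
    have := congrArg (fun w : (S.alg M)ˣ => ((w : S.alg M) : Module.End (ZMod 3) W)) hi
    simpa using this.symm
  have hinv : ∀ g : L, S.π g⁻¹ * S.π g = 1 := fun g => by rw [← map_mul, inv_mul_cancel, map_one]
  have hinv' : ∀ g : L, S.π g * S.π g⁻¹ = 1 := fun g => by rw [← map_mul, mul_inv_cancel, map_one]
  -- every element acts as a power map
  have hact : ∀ g : L, ∃ i : ℕ, ∀ c : ℕ, S.π g * z ^ c * S.π g⁻¹ = z ^ (i * c) := by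
    intro g
    have hne : S.π g * z * S.π g⁻¹ ≠ 0 := by
      intro h
      have h' := congrArg (fun w => S.π g⁻¹ * w * S.π g) h
      simp only [mul_zero, zero_mul, ← mul_assoc, hinv, one_mul] at h'
      rw [mul_assoc, hinv, mul_one] at h'
      exact ζ.ne_zero (Subtype.ext h')
    obtain ⟨i, hi⟩ := hpow _ (S.alg_conj g (ζ : S.alg M).2) hne
    refine ⟨i, fun c => ?_⟩
    induction c with
    | zero => simp [hinv']
    | succ c ih =>
      rw [Nat.mul_succ, pow_add (m := i * c), ← ih, ← hi, pow_succ]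
      simp only [mul_assoc]
      rw [← mul_assoc (S.π g⁻¹) (S.π g), hinv, one_mul]
  -- the kernel
  let H : Subgroup L :=
    { carrier := {g | ∀ c ∈ S.alg M, S.π g * c = c * S.π g}
      one_mem' := fun c _ => by simp
      mul_mem' := fun {x y} hx hy c hc => by rw [map_mul, mul_assoc, hy c hc, ← mul_assoc, hx c hc, mul_assoc]
      inv_mem' := fun {x} hx c hc => by
        calc S.π x⁻¹ * c = S.π x⁻¹ * (c * S.π x) * S.π x⁻¹ := by
              simp only [mul_assoc]; rw [hinv', mul_one]
          _ = c * S.π x⁻¹ := by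
              rw [← hx c hc, ← mul_assoc, hinv, one_mul] }
  refine (?_ : S.R ≤ H) hr a ha
  rw [S.commR, Subgroup.commutator_le]
  intro g _ h _ c hc
  by_cases hc0 : c = 0
  · simp [hc0]
  obtain ⟨k, rfl⟩ := hpow c hc hc0
  obtain ⟨i, hi⟩ := hact g
  obtain ⟨j, hj⟩ := hact h
  obtain ⟨i', hi'⟩ := hact g⁻¹
  obtain ⟨j', hj'⟩ := hact h⁻¹
  have key : S.π ⁅g, h⁆ * z ^ k * S.π ⁅g, h⁆⁻¹ = z ^ (i * (j * (i' * (j' * k)))) := by
    rw [← hi, ← hj, ← hi', ← hj', commutatorElement_def, map_mul, map_mul, map_mul, mul_inv_rev,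
      mul_inv_rev, mul_inv_rev, map_mul, map_mul, map_mul]
    simp only [inv_inv, mul_assoc]
  have key2 : z ^ (i * (j * (i' * (j' * k)))) = z ^ k := by
    rw [show i * (j * (i' * (j' * k))) = i * (i' * (j * (j' * k))) by ring, ← hi, ← hi', ← hj, ← hj']
    simp only [inv_inv, ← mul_assoc, hinv', one_mul]
    simp only [mul_assoc, hinv', mul_one]
  rw [key2] at key
  conv_rhs => rw [← key]
  rw [mul_assoc (S.π ⁅g, h⁆ * z ^ k), hinv, mul_one]

/-- An abelian normal subgroup of the kernel: signs or lines. -/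
theorem scalar_or_monomial {M : Subgroup L} [hMn : M.Normal] (hMR : M ≤ S.R)
    (hM : ∀ x ∈ M, ∀ y ∈ M, x * y = y * x) :
    (∀ x ∈ M, S.π x = 1 ∨ S.π x = -1) ∨ S.Monomial := by
  classical
  haveI : Module.Finite (ZMod 3) W := Module.Finite.of_finite
  haveI : Finite (Module.End (ZMod 3) W) := Module.finite_of_finite (ZMod 3)
  haveI : Nontrivial W := by
    obtain ⟨v, x, -, hx⟩ := S.exists_moved
    exact ⟨⟨_, _, hx⟩⟩
  by_cases hmv : ∃ e, S.MinIdem M e ∧ S.π S.b * e * S.π S.b⁻¹ ≠ e
  · obtain ⟨e, he, hb⟩ := hmv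
    exact Or.inr (S.monomial_of_moved hM he hb)
  push Not at hmv
  have hgg : ∀ g : L, S.π g * S.π g⁻¹ = 1 := fun g => by rw [← map_mul, mul_inv_cancel, map_one]
  have hgg' : ∀ g : L, S.π g⁻¹ * S.π g = 1 := fun g => by rw [← map_mul, inv_mul_cancel, map_one]
  have hmin_conj : ∀ (g : L) e, S.MinIdem M e → S.MinIdem M (S.π g * e * S.π g⁻¹) := by
    rintro g e ⟨h1, h2, h3, h4⟩
    refine ⟨S.alg_conj g h1, ?_, ?_, fun f hf hff => ?_⟩
    · simp only [mul_assoc]
      rw [← mul_assoc (S.π g⁻¹), hgg', one_mul, ← mul_assoc e e, h2]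
    · intro h
      apply h3
      have := congrArg (fun w => S.π g⁻¹ * w * S.π g) h
      simp only [mul_zero, zero_mul, ← mul_assoc, hgg', one_mul] at this
      rwa [mul_assoc, hgg', mul_one] at this
    · have hf' := S.alg_conj g⁻¹ hf
      rw [inv_inv] at hf'
      have hidem : S.π g⁻¹ * f * S.π g * (S.π g⁻¹ * f * S.π g) = S.π g⁻¹ * f * S.π g := by
        simp only [mul_assoc]
        rw [← mul_assoc (S.π g) (S.π g⁻¹), hgg, one_mul, ← mul_assoc f f, hff]
      have h5 : f * (S.π g * e * S.π g⁻¹) = S.π g * (S.π g⁻¹ * f * S.π g * e) * S.π g⁻¹ := by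
        simp only [← mul_assoc, hgg, one_mul]
      rcases h4 _ hf' hidem with h | h
      · exact Or.inl (by rw [h5, h, mul_zero, zero_mul])
      · exact Or.inr (by rw [h5, h])
  let H : Subgroup L :=
    { carrier := {g | ∀ e, S.MinIdem M e → S.π g * e * S.π g⁻¹ = e}
      one_mem' := fun e _ => by simp
      mul_mem' := fun {x y} hx hy e he => by
        rw [map_mul, mul_inv_rev, map_mul]
        calc S.π x * S.π y * e * (S.π y⁻¹ * S.π x⁻¹) = S.π x * (S.π y * e * S.π y⁻¹) * S.π x⁻¹ := by
              simp only [mul_assoc]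
          _ = e := by rw [hy e he, hx e he]
      inv_mem' := fun {x} hx e he => by
        rw [inv_inv]
        calc S.π x⁻¹ * e * S.π x = S.π x⁻¹ * (S.π x * e * S.π x⁻¹) * S.π x := by rw [hx e he]
          _ = e := by
            simp only [← mul_assoc, hgg', one_mul]
            rw [mul_assoc, hgg', mul_one] }
  haveI : H.Normal := ⟨fun x hx g e he => by
    have h := hx _ (hmin_conj g⁻¹ e he)
    rw [inv_inv] at h
    rw [map_mul, map_mul, mul_inv_rev, mul_inv_rev, map_mul, map_mul, inv_inv]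
    calc S.π g * S.π x * S.π g⁻¹ * e * (S.π g * (S.π x⁻¹ * S.π g⁻¹))
        = S.π g * (S.π x * (S.π g⁻¹ * e * S.π g) * S.π x⁻¹) * S.π g⁻¹ := by simp only [mul_assoc]
      _ = e := by
        rw [h]
        simp only [← mul_assoc, hgg, one_mul]
        rw [mul_assoc, hgg, mul_one]⟩
  have htop : H = ⊤ := S.top_of_R_le_b_mem (S.R_le_of_b_mem hmv) hmv
  have he1 : ∀ e, S.MinIdem M e → e = 1 := by
    intro e he
    have hc : ∀ g : L, S.π g * e = e * S.π g := fun g => by
      have := (htop ▸ Subgroup.mem_top g : g ∈ H) e he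
      conv_rhs => rw [← this, mul_assoc, hgg', mul_one]
    rcases S.irred (LinearMap.range e) (fun g v ⟨w, hw⟩ => ⟨S.π g w, by
      rw [← Module.End.mul_apply, ← hc, Module.End.mul_apply, hw]⟩) with h | h
    · exact absurd (LinearMap.range_eq_bot.mp h) he.2.2.1
    · refine LinearMap.ext fun v => ?_
      obtain ⟨w, rfl⟩ := LinearMap.range_eq_top.mp h v
      rw [← Module.End.mul_apply, he.2.1, Module.End.one_apply]
  have h1min : S.MinIdem M 1 := by
    obtain ⟨e, he, -⟩ := S.exists_minIdem_below hM _ 1 (S.alg M).one_mem (mul_one 1) one_ne_zero le_rfl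
    exact he1 e he ▸ he
  obtain ⟨q, hq2, hq⟩ := S.alg_frobenius hMR hM
  have hunit : ∀ a ∈ S.alg M, a ≠ 0 → a ^ (q - 1) = 1 := by
    intro a ha ha0
    have hp : a ^ (q - 1) * a = a := by rw [← pow_succ, Nat.sub_add_cancel (by omega)]; exact hq a ha
    have hidem : a ^ (q - 1) * a ^ (q - 1) = a ^ (q - 1) := by
      conv_lhs => rw [show a ^ (q - 1) = a ^ (q - 2) * a by rw [← pow_succ]; congr 1; omega]
      rw [mul_assoc, ← mul_assoc a, ← pow_succ', ← pow_succ, show q - 2 + 1 + 1 = q by omega, hq a ha,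
        ← pow_succ]
      congr 1
      omega
    rcases h1min.2.2.2 _ ((S.alg M).pow_mem ha _) hidem with h | h <;> rw [mul_one] at h
    · exact absurd (by rw [← hp, h, zero_mul]) ha0
    · exact h
  have hcancel : ∀ a ∈ S.alg M, a ≠ 0 → ∀ v, a v = 0 → v = 0 := by
    intro a ha ha0 v hv
    have h := LinearMap.congr_fun (hunit a ha ha0) v
    rw [Module.End.one_apply, show q - 1 = q - 2 + 1 by omega, pow_succ, Module.End.mul_apply, hv,
      map_zero] at h
    exact h.symm
  have hdom : ∀ a ∈ S.alg M, ∀ c ∈ S.alg M, a * c = 0 → a = 0 ∨ c = 0 := by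
    intro a ha c _ h
    by_cases ha0 : a = 0
    · exact Or.inl ha0
    · refine Or.inr (LinearMap.ext fun v => hcancel a ha ha0 _ ?_)
      rw [← Module.End.mul_apply, h, LinearMap.zero_apply]
  by_cases hσ : ∀ a ∈ S.alg M, S.π S.b * a = a * S.π S.b
  · left
    intro x hx
    set N := S.π S.b - 1 with hN
    have hNc : ∀ a ∈ S.alg M, ∀ v, a (N v) = N (a v) := fun a ha v => by
      have := LinearMap.congr_fun (hσ a ha) v
      rw [Module.End.mul_apply, Module.End.mul_apply] at this
      show a (S.π S.b v - v) = S.π S.b (a v) - a v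
      rw [map_sub, this]
    obtain ⟨w, hw⟩ : ∃ w, N (N w) ≠ 0 := by
      by_contra! hcon
      refine S.sq_ne_zero.1 (LinearMap.ext fun v => ?_)
      rw [sq, Module.End.mul_apply, hcon v, LinearMap.zero_apply]
    have hlt : LinearMap.range (N * N) < LinearMap.range N := by
      refine lt_of_le_of_ne (LinearMap.range_comp_le_range N N) fun he => ?_
      have h3 : N (N (N w)) = 0 := by
        have := LinearMap.congr_fun S.bcube w
        rwa [pow_succ', sq, Module.End.mul_apply, Module.End.mul_apply] at this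
      have : ∀ v, N (N v) = 0 := by
        intro v
        have hmem : N v ∈ LinearMap.range (N * N) := he ▸ LinearMap.mem_range_self N v
        obtain ⟨y, hy⟩ := hmem
        rw [← hy, Module.End.mul_apply]
        have := LinearMap.congr_fun S.bcube y
        rwa [pow_succ', sq, Module.End.mul_apply, Module.End.mul_apply] at this
      exact hw (this w)
    have hrank1 : finrank (ZMod 3) (LinearMap.range (N * N)) ≤ 1 := by
      have h1 := Submodule.finrank_lt_finrank_of_lt hlt
      have h2 : finrank (ZMod 3) (LinearMap.range N) ≤ 2 := S.rank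
      omega
    have hmem : ∀ v, N (N v) ∈ LinearMap.range (N * N) := fun v => ⟨v, rfl⟩
    obtain ⟨⟨u, hu⟩, hspan⟩ := finrank_le_one_iff.mp hrank1
    obtain ⟨c1, hc1⟩ := hspan ⟨_, hmem w⟩
    obtain ⟨c2, hc2⟩ := hspan ⟨S.π x (N (N w)), by
      rw [hNc _ (S.mem_alg hx), hNc _ (S.mem_alg hx)]; exact hmem _⟩
    have e1 : c1 • u = N (N w) := congrArg Subtype.val hc1
    have e2 : c2 • u = S.π x (N (N w)) := congrArg Subtype.val hc2
    have hc10 : c1 ≠ 0 := fun h => hw (by rw [← e1, h, zero_smul])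
    set l := c2 * c1⁻¹ with hl
    have hx0 : S.π x = l • 1 := by
      by_contra hne
      apply hw
      refine hcancel (S.π x - l • 1) ((S.alg M).sub_mem (S.mem_alg hx)
        ((S.alg M).smul_mem (S.alg M).one_mem l)) (sub_ne_zero.mpr hne) _ ?_
      rw [LinearMap.sub_apply, LinearMap.smul_apply, Module.End.one_apply, ← e2, ← e1, smul_smul, hl,
        mul_assoc, inv_mul_cancel₀ hc10, mul_one, sub_self]
    rcases zmod_three_cases l with h | h | h <;> rw [h] at hx0
    · exfalso
      rw [zero_smul] at hx0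
      have := hgg x
      rw [hx0, zero_mul] at this
      exact zero_ne_one this
    · exact Or.inl (by rw [hx0, one_smul])
    · exact Or.inr (by rw [hx0, neg_one_smul])
  · exfalso
    push Not at hσ
    obtain ⟨t, ht, htne⟩ := hσ
    set t1 := S.π S.b * t * S.π S.b⁻¹ with ht1
    set t2 := S.π S.b * t1 * S.π S.b⁻¹ with ht2
    have ht1A : t1 ∈ S.alg M := S.alg_conj S.b ht
    have h10 : t1 - t ≠ 0 := by
      intro h
      apply htne
      conv_rhs => rw [← sub_eq_zero.mp h, ht1, mul_assoc, hgg', mul_one]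
    have h20 : t2 - t ≠ 0 := by
      intro h
      apply h10
      have h3 : S.π S.b * t2 * S.π S.b⁻¹ = t := by
        have hb3 : S.π S.b * (S.π S.b * S.π S.b) = 1 := by
          rw [← map_mul, ← map_mul, ← mul_assoc, ← sq, ← pow_succ, S.b3, map_one]
        have hb3' : S.π S.b⁻¹ * (S.π S.b⁻¹ * S.π S.b⁻¹) = 1 := by
          rw [← map_mul, ← map_mul, ← mul_inv_rev, ← mul_inv_rev,
            show S.b * S.b * S.b = 1 by rw [← sq, ← pow_succ, S.b3], inv_one, map_one]
        calc S.π S.b * t2 * S.π S.b⁻¹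
            = S.π S.b * (S.π S.b * S.π S.b) * t * (S.π S.b⁻¹ * (S.π S.b⁻¹ * S.π S.b⁻¹)) := by
              rw [ht2, ht1]; simp only [mul_assoc]
          _ = t := by rw [hb3, hb3', one_mul, mul_one]
      rw [sub_eq_zero] at h ⊢
      rw [h] at h3
      exact h3
    -- fixed vectors of `b`
    set C := LinearMap.ker (S.π S.b - 1) with hC
    have hCmem : ∀ c : C, S.π S.b (c : W) = c := fun c => sub_eq_zero.mp c.2
    have hmove : ∀ (a : Module.End (ZMod 3) W) (v : W),
        S.π S.b (a v) = (S.π S.b * a * S.π S.b⁻¹) (S.π S.b v) := fun a v => by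
      simp only [Module.End.mul_apply, apply_inv_apply]
    let f : (C × C) × C →ₗ[ZMod 3] W := (C.subtype.coprod (t.comp C.subtype)).coprod ((t * t).comp C.subtype)
    have hfinj : Function.Injective f := by
      refine (injective_iff_map_eq_zero f).mpr ?_
      rintro ⟨⟨c0, c1⟩, c2⟩ h
      replace h : (c0 : W) + t (c1 : W) + t (t (c2 : W)) = 0 := h
      have hb1 := congrArg (S.π S.b) h
      rw [map_zero, map_add, map_add, hCmem, hmove t, hCmem, hmove t, hmove t, hCmem] at hb1
      rw [← ht1] at hb1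
      have d1 : (t1 - t) (c1 : W) + (t1 - t) ((t1 + t) (c2 : W)) = 0 := by
        have hcm : t1 (t (c2 : W)) = t (t1 (c2 : W)) := by
          rw [← Module.End.mul_apply, S.alg_comm hM ht1A ht, Module.End.mul_apply]
        have := sub_eq_zero.mpr (hb1.trans h.symm)
        simp only [LinearMap.sub_apply, LinearMap.add_apply, map_add, hcm] at this ⊢
        rw [← this]; abel
      rw [← map_add] at d1
      have d2 : (c1 : W) + t1 (c2 : W) + t (c2 : W) = 0 := by
        have := hcancel _ ((S.alg M).sub_mem ht1A ht) h10 _ d1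
        rwa [LinearMap.add_apply, ← add_assoc] at this
      have hb2 := congrArg (S.π S.b) d2
      rw [map_zero, map_add, map_add, hCmem, hmove t1, hCmem, hmove t, hCmem, ← ht1, ← ht2] at hb2
      have d3 : (c2 : W) = 0 := by
        refine hcancel _ ((S.alg M).sub_mem (S.alg_conj S.b ht1A) ht) h20 _ ?_
        rw [LinearMap.sub_apply]
        have := sub_eq_zero.mpr (hb2.trans d2.symm)
        rw [← this]; abel
      rw [d3, map_zero, map_zero, add_zero, add_zero] at d2
      rw [d2, d3, map_zero, map_zero, add_zero, add_zero] at h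
      exact Prod.ext (Prod.ext (Subtype.ext h) (Subtype.ext d2)) (Subtype.ext d3)
    have hdim := LinearMap.finrank_le_finrank_of_injective hfinj
    rw [Module.finrank_prod, Module.finrank_prod] at hdim
    have hrn := LinearMap.finrank_range_add_finrank_ker (S.π S.b - 1)
    have hr2 := S.rank
    have h3 := S.sq_ne_zero.2
    rw [← hC] at hrn
    have hCdim : finrank (ZMod 3) C = 1 := by omega
    obtain ⟨⟨u, huC⟩, hu0, huspan⟩ := finrank_eq_one_iff'.mp hCdim
    have hu : u ≠ 0 := fun h => hu0 (Subtype.ext h)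
    have hftop : ∀ v, ∃ a ∈ S.alg M, v = a u := by
      intro v
      have hsurj : LinearMap.range f = ⊤ := by
        refine Submodule.eq_top_of_finrank_eq ?_
        rw [LinearMap.finrank_range_of_inj hfinj, Module.finrank_prod, Module.finrank_prod]
        omega
      obtain ⟨⟨⟨c0, c1⟩, c2⟩, hc⟩ := LinearMap.range_eq_top.mp hsurj v
      obtain ⟨l0, h0⟩ := huspan c0
      obtain ⟨l1, h1⟩ := huspan c1
      obtain ⟨l2, h2⟩ := huspan c2
      refine ⟨l0 • 1 + l1 • t + l2 • (t * t), (S.alg M).add_mem ((S.alg M).add_mem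
        ((S.alg M).smul_mem (S.alg M).one_mem _) ((S.alg M).smul_mem ht _))
        ((S.alg M).smul_mem ((S.alg M).mul_mem ht ht) _), ?_⟩
      rw [← hc]
      show (c0 : W) + t (c1 : W) + t (t (c2 : W)) = _
      rw [← congrArg Subtype.val h0, ← congrArg Subtype.val h1, ← congrArg Subtype.val h2]
      simp [map_smul]
    -- the four-group lies in a field
    obtain ⟨a, ha, ha1, hne, -, -, -⟩ := S.exists_triple
    have hneg : ∀ x ∈ S.Q, x ≠ 1 → S.π x = -1 := by
      intro x hx hx1
      obtain ⟨c, hc, hcu⟩ := hftop (S.π x u)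
      have hxc : S.π x = c := by
        refine LinearMap.ext fun v => ?_
        obtain ⟨d, hd, rfl⟩ := hftop v
        rw [← Module.End.mul_apply, S.R_le_centralizer hM hdom (S.hQR hx) hd, Module.End.mul_apply,
          hcu, ← Module.End.mul_apply, S.alg_comm hM hd hc, Module.End.mul_apply]
      have hsq : S.π x * S.π x = 1 := by rw [← map_mul, ← sq, S.Qexp x hx, map_one]
      rw [hxc] at hsq ⊢
      rcases hdom _ ((S.alg M).sub_mem hc (S.alg M).one_mem) _
          ((S.alg M).add_mem hc (S.alg M).one_mem)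
          (by rw [sub_mul, mul_add, mul_one, one_mul, hsq]; abel) with h | h
      · exact absurd (S.faithful (by rw [hxc, map_one]; exact sub_eq_zero.mp h)) hx1
      · exact eq_neg_of_add_eq_zero_left h
    have e1 := hneg a ha ha1
    have e2 := hneg _ (S.Qnorm a ha) (fun h => ha1 (conj_eq_one_iff.mp h))
    exact hne (S.faithful (e2.trans e1.symm))

end Setting

end CfsgLib.CubicBlock
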