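import Cfsg.Agent.Lib.CubicBlock.Idem
import Cfsg.Agent.Lib.Extraspecial.Setting

/-!
The monomial case: four lines at most, and signed permutations decide everything.
-/

set_option autoImplicit false
set_option linter.unusedSectionVars false
set_option linter.style.haveILetI false

namespace CfsgLib.CubicBlock

open Module Equiv
open scoped commutatorElement Pointwise

/-- The sign attached to a residue modulo two. -/
def sgn2 (c : ZMod 2) : ZMod 3 := if c = 0 then 1 else -1

theorem sgn2_add : ∀ a c : ZMod 2, sgn2 (a + c) = sgn2 a * sgn2 c := by decide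

theorem zmod_two_cases : ∀ c : ZMod 2, c = 0 ∨ c = 1 := by decide

theorem sgn2_inj : ∀ a c : ZMod 2, sgn2 a = sgn2 c → a = c := by decide

theorem sgn2_ne : ∀ a : ZMod 2, sgn2 a ≠ 0 := by decide

/-- Two three-cycles meeting in one point generate an insoluble group. -/
theorem not_solvable_five (K : Subgroup (Perm (Fin 5)))
    (hu : (c[0, 1, 2] : Perm (Fin 5)) ∈ K) (hv : (c[0, 3, 4] : Perm (Fin 5)) ∈ K) :
    ¬ Group.IsSolvable K := by
  intro hK
  obtain ⟨n, hn⟩ := hK.solvable
  set u : Perm (Fin 5) := c[0, 1, 2]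
  set v : Perm (Fin 5) := c[0, 3, 4]
  have key : ∀ k, (⟨u, hu⟩ : K) ∈ derivedSeries K k ∧ (⟨v, hv⟩ : K) ∈ derivedSeries K k := by
    intro k
    induction k with
    | zero => simp
    | succ k ih =>
      have hn' := derivedSeries_normal K k
      constructor
      · have e : (⟨u, hu⟩ : K) = ⁅(⟨v, hv⟩ : K)⁻¹ * ⟨u, hu⟩ * (⟨v, hv⟩ : K)⁻¹⁻¹,
            (⟨v, hv⟩⁻¹ * ⟨u, hu⟩) * ⟨v, hv⟩ * ((⟨v, hv⟩ : K)⁻¹ * ⟨u, hu⟩)⁻¹⁆ :=
          Subtype.ext (show u = ⁅v⁻¹ * u * v⁻¹⁻¹, (v⁻¹ * u) * v * (v⁻¹ * u)⁻¹⁆ by decide +kernel)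
        rw [e, derivedSeries_succ]
        exact Subgroup.commutator_mem_commutator (hn'.conj_mem _ ih.1 _) (hn'.conj_mem _ ih.2 _)
      · have e : (⟨v, hv⟩ : K) = ⁅(⟨u, hu⟩ : K)⁻¹ * ⟨v, hv⟩ * (⟨u, hu⟩ : K)⁻¹⁻¹,
            (⟨u, hu⟩⁻¹ * ⟨v, hv⟩) * ⟨u, hu⟩ * ((⟨u, hu⟩ : K)⁻¹ * ⟨v, hv⟩)⁻¹⁆ :=
          Subtype.ext (show v = ⁅u⁻¹ * v * u⁻¹⁻¹, (u⁻¹ * v) * u * (u⁻¹ * v)⁻¹⁆ by decide +kernel)
        rw [e, derivedSeries_succ]
        exact Subgroup.commutator_mem_commutator (hn'.conj_mem _ ih.2 _) (hn'.conj_mem _ ih.1 _)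
  have h1 := (key n).1
  rw [hn, Subgroup.mem_bot] at h1
  exact absurd (congrArg Subtype.val h1) (show u ≠ 1 by decide +kernel)

/-- Three-cycles in a soluble permutation group do not meet in exactly one point. -/
theorem no_single_meet {n : ℕ} {X : Subgroup (Perm (Fin n))} (hX : Group.IsSolvable X)
    {p q : Perm (Fin n)} (hp : p ∈ X) (hq : q ∈ X) (hpc : p.IsThreeCycle) (hqc : q.IsThreeCycle)
    (h : (p.support ∩ q.support).card = 1) : False := by
  obtain ⟨a, ha⟩ := Finset.card_eq_one.mp h
  have ham : a ∈ p.support ∧ a ∈ q.support := Finset.mem_inter.mp (ha ▸ Finset.mem_singleton_self a)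
  have hp3 : ∀ x, p (p (p x)) = x := fun x => by
    have := pow_orderOf_eq_one p
    rw [hpc.orderOf] at this
    simpa [pow_succ] using Equiv.ext_iff.mp this x
  have hq3 : ∀ x, q (q (q x)) = x := fun x => by
    have := pow_orderOf_eq_one q
    rw [hqc.orderOf] at this
    simpa [pow_succ] using Equiv.ext_iff.mp this x
  set b := p a with hb
  set c := p b with hc
  set d := q a with hd
  set e := q d with he
  have hba : b ≠ a := Perm.mem_support.mp ham.1
  have hda : d ≠ a := Perm.mem_support.mp ham.2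
  have hbS : b ∈ p.support := Perm.apply_mem_support.mpr ham.1
  have hdS : d ∈ q.support := Perm.apply_mem_support.mpr ham.2
  have hcS : c ∈ p.support := Perm.apply_mem_support.mpr hbS
  have heS : e ∈ q.support := Perm.apply_mem_support.mpr hdS
  have hca : c ≠ a := fun h' => hba (by have := hp3 a; rw [← hb, ← hc, h', ← hb] at this; exact this)
  have hea : e ≠ a := fun h' => hda (by have := hq3 a; rw [← hd, ← he, h', ← hd] at this; exact this)
  have hcb : c ≠ b := Perm.mem_support.mp hbS
  have hed : e ≠ d := Perm.mem_support.mp hdS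
  have cross : ∀ x ∈ p.support, ∀ y ∈ q.support, x ≠ a → x ≠ y := fun x hx y hy hxa hxy => hxa
    (Finset.mem_singleton.mp (ha ▸ Finset.mem_inter.mpr ⟨hx, hxy ▸ hy⟩))
  have hbd := cross b hbS d hdS hba
  have hbe := cross b hbS e heS hba
  have hcd := cross c hcS d hdS hca
  have hce := cross c hcS e heS hca
  let f : Fin 5 ↪ Fin n := ⟨![a, b, c, d, e], by
    intro i j hij
    fin_cases i <;> fin_cases j <;>
      simp [hba, hba.symm, hca, hca.symm, hda, hda.symm, hea, hea.symm, hcb, hcb.symm, hed, hed.symm,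
        hbd, hbd.symm, hbe, hbe.symm, hcd, hcd.symm, hce, hce.symm] at hij ⊢⟩
  have hsupp : ∀ (r : Perm (Fin n)), r.IsThreeCycle → ∀ x y z, x ∈ r.support → y ∈ r.support →
      z ∈ r.support → x ≠ y → x ≠ z → y ≠ z → r.support = {x, y, z} := by
    intro r hr x y z hx hy hz h1 h2 h3
    symm
    refine Finset.eq_of_subset_of_card_le (by simp [Finset.insert_subset_iff, hx, hy, hz]) ?_
    rw [hr.card_support, Finset.card_eq_three.mpr ⟨x, y, z, h1, h2, h3, rfl⟩]
  have hps := hsupp p hpc a b c ham.1 hbS hcS hba.symm hca.symm hcb.symm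
  have hqs := hsupp q hqc a d e ham.2 hdS heS hda.symm hea.symm hed.symm
  have hfix : ∀ (r : Perm (Fin n)) x, x ∉ r.support → r x = x := fun r x hx =>
    Perm.notMem_support.mp hx
  have himg : ∀ (r : Perm (Fin n)) (s : Perm (Fin 5)), (∀ i, r (f i) = f (s i)) →
      (∀ x, x ∉ Set.range f → r x = x) → Perm.viaEmbeddingHom f s = r := by
    intro r s h1 h2
    refine Equiv.ext fun x => ?_
    rw [Perm.viaEmbeddingHom_apply]
    by_cases hx : x ∈ Set.range f
    · obtain ⟨i, rfl⟩ := hx
      rw [Perm.viaEmbedding_apply, h1]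
    · rw [Perm.viaEmbedding_apply_of_notMem _ _ _ hx, h2 x hx]
  have hp_img : Perm.viaEmbeddingHom f (c[0, 1, 2] : Perm (Fin 5)) = p := by
    refine himg p _ (fun i => ?_) (fun x hx => hfix p x ?_)
    · fin_cases i
      · exact hb.symm
      · exact hc.symm
      · exact hp3 a
      · exact hfix p d (by rw [hps]; simp [hbd.symm, hcd.symm, hda])
      · exact hfix p e (by rw [hps]; simp [hbe.symm, hce.symm, hea])
    · rw [hps]
      simp only [Finset.mem_insert, Finset.mem_singleton, not_or]
      exact ⟨fun h => hx ⟨0, h.symm⟩, fun h => hx ⟨1, h.symm⟩, fun h => hx ⟨2, h.symm⟩⟩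
  have hq_img : Perm.viaEmbeddingHom f (c[0, 3, 4] : Perm (Fin 5)) = q := by
    refine himg q _ (fun i => ?_) (fun x hx => hfix q x ?_)
    · fin_cases i
      · exact hd.symm
      · exact hfix q b (by rw [hqs]; simp [hbd, hbe, hba])
      · exact hfix q c (by rw [hqs]; simp [hcd, hce, hca])
      · exact he.symm
      · exact hq3 a
    · rw [hqs]
      simp only [Finset.mem_insert, Finset.mem_singleton, not_or]
      exact ⟨fun h => hx ⟨0, h.symm⟩, fun h => hx ⟨3, h.symm⟩, fun h => hx ⟨4, h.symm⟩⟩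
  let φ := (Perm.viaEmbeddingHom f).subgroupComap X
  refine not_solvable_five (X.comap (Perm.viaEmbeddingHom f)) ?_ ?_
    (solvable_of_solvable_injective (f := φ) (fun x y h => Subtype.ext
      (Perm.viaEmbeddingHom_injective f (congrArg Subtype.val h))))
  · rw [Subgroup.mem_comap, hp_img]; exact hp
  · rw [Subgroup.mem_comap, hq_img]; exact hq

/-- The product of signed permutations. -/
def smul4 (x y : (Fin 4 → ZMod 2) × Perm (Fin 4)) : (Fin 4 → ZMod 2) × Perm (Fin 4) :=
  (fun i => y.1 i + x.1 (y.2 i), x.2 * y.2)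

/-- The signed permutations available to the kernel. -/
def hset : Finset ((Fin 4 → ZMod 2) × Perm (Fin 4)) :=
  Finset.univ.filter fun x => x.1 0 + x.1 1 + x.1 2 + x.1 3 = 0 ∧ x.2 ^ 2 = 1 ∧ Perm.sign x.2 = 1

theorem card_hset : hset.card = 32 := by decide +kernel

set_option synthInstance.maxSize 512 in
set_option synthInstance.maxHeartbeats 200000 in
theorem even_four : ∀ s : Perm (Fin 4), Perm.sign s = 1 → s ^ 2 = 1 ∨ s ^ 3 = 1 := by decide +kernel

set_option synthInstance.maxSize 512 in
set_option synthInstance.maxHeartbeats 200000 in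
theorem four_unique : ∀ s t : Perm (Fin 4), Perm.sign s = 1 → Perm.sign t = 1 → s ^ 2 = 1 →
    t ^ 2 = 1 → s 0 = t 0 → s = t := by decide +kernel

set_option synthInstance.maxSize 512 in
set_option synthInstance.maxHeartbeats 200000 in
theorem four_two_trans : ∀ (e h : Fin 4 → ZMod 2) (c : Perm (Fin 4)), c ^ 3 = 1 → c ≠ 1 →
    (e 0 + e 1 + e 2 + e 3 = 0 ∧ ∃ i j, e i ≠ e j) → (h 0 + h 1 + h 2 + h 3 = 0 ∧ ∃ i j, h i ≠ h j) →
    ∃ w : Perm (Fin 4), (Perm.sign w = 1 ∧ w ^ 2 = 1) ∧ ∃ k : Fin 3, ∀ i, h ((w * c ^ k.val) i) = e i := by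
  decide +kernel

theorem hset_comm : ∀ x ∈ hset, ∀ y ∈ hset, smul4 x y = smul4 y x ∨
    smul4 x y = smul4 (fun _ => 1, 1) (smul4 y x) := by decide +kernel

theorem hset_sq : ∀ x ∈ hset, (∀ i, (smul4 x x).1 i = 0) ∧ (smul4 x x).2 = 1 ∨
    (∀ i, (smul4 x x).1 i = 1) ∧ (smul4 x x).2 = 1 := by decide +kernel

theorem hset_center : ∀ x ∈ hset, (∀ y ∈ hset, smul4 x y = smul4 y x) →
    x = (fun _ => 0, 1) ∨ x = (fun _ => 1, 1) := by decide +kernel

theorem hset_center' : ∀ y ∈ hset, smul4 (fun _ => 1, 1) y = smul4 y (fun _ => 1, 1) := by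
  decide +kernel

/-- Two non-commuting signed permutations. -/
def hx : (Fin 4 → ZMod 2) × Perm (Fin 4) := (![1, 1, 0, 0], 1)

/-- Two non-commuting signed permutations. -/
def hy : (Fin 4 → ZMod 2) × Perm (Fin 4) := (0, swap 0 2 * swap 1 3)

theorem hx_mem : hx ∈ hset := by decide +kernel

theorem hy_mem : hy ∈ hset := by decide +kernel

theorem hxy_ne : smul4 hx hy ≠ smul4 hy hx := by decide +kernel

namespace Setting

variable {L : Type*} [Group L] [Finite L] {W : Type*} [AddCommGroup W] [Module (ZMod 3) W]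
  [Finite W] (S : Setting L W)

/-- The conclusion about the kernel. -/
def Concl : Prop :=
  ((∀ x ∈ S.R, ∀ y ∈ S.R, x * y = y * x) ∧ (∀ x ∈ S.R, x ^ 2 = 1) ∧ Nat.card S.R = 4) ∨
    (Cfsg.IsExtraspecial 2 S.R ∧ Nat.card S.R = 32 ∧
      ∃ A : Subgroup L, A ≤ S.R ∧ (∀ x ∈ A, ∀ y ∈ A, x * y = y * x) ∧ (∀ x ∈ A, x ^ 2 = 1) ∧
        Nat.card A = 8)

include S in
theorem isSolvable : Group.IsSolvable L := by
  haveI := S.normalR
  haveI := S.solvR
  haveI : IsCyclic (L ⧸ S.R) := by
    refine ⟨⟨(S.b : L ⧸ S.R), fun y => ?_⟩⟩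
    obtain ⟨x, rfl⟩ := QuotientGroup.mk_surjective y
    obtain ⟨r, hr, i, rfl⟩ := S.gen x
    rw [QuotientGroup.mk_mul, (QuotientGroup.eq_one_iff r).mpr hr, one_mul, QuotientGroup.mk_pow]
    exact Subgroup.npow_mem_zpowers _ i
  letI : CommGroup (L ⧸ S.R) := IsCyclic.commGroup
  haveI : Group.IsSolvable (L ⧸ S.R) := inferInstance
  exact solvable_of_ker_le_range S.R.subtype (QuotientGroup.mk' S.R)
    (by rw [QuotientGroup.ker_mk', Subgroup.range_subtype])

theorem concl_of_monomial (h : S.Monomial) : S.Concl := by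
  classical
  haveI : Module.Finite (ZMod 3) W := Module.Finite.of_finite
  obtain ⟨ι, hι, v0, hperm0, htr0, i00, hi00⟩ := h
  obtain ⟨n, ⟨en⟩⟩ : ∃ n, Nonempty (ι ≃ Fin n) := ⟨_, ⟨Fintype.equivFin ι⟩⟩
  set v := v0.reindex en with hv
  have hv' : ∀ i, v i = v0 (en.symm i) := fun i => Basis.reindex_apply _ _ _
  have hperm1 : ∀ (g : L) (i : Fin n), ∃ (j : Fin n) (c : ZMod 2), S.π g (v i) = sgn2 c • v j := by
    intro g i
    obtain ⟨j, hj⟩ := hperm0 g (en.symm i)
    refine hj.elim (fun h => ⟨en j, 0, ?_⟩) (fun h => ⟨en j, 1, ?_⟩)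
    · rw [hv', hv', symm_apply_apply, h, show sgn2 0 = 1 from rfl, one_smul]
    · rw [hv', hv', symm_apply_apply, h, show sgn2 1 = -1 from rfl, neg_one_smul]
  choose σ0 ε hσε using hperm1
  have huniq : ∀ {i j : Fin n} {c d : ZMod 2}, sgn2 c • v i = sgn2 d • v j → i = j ∧ c = d := by
    intro i j c d he
    have h1 := congrArg (fun w => v.repr w i) he
    simp only [map_smul, Basis.repr_self, Finsupp.smul_apply, Finsupp.single_eq_same, smul_eq_mul,
      mul_one] at h1
    by_cases hij : i = j
    · subst hij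
      simp only [Finsupp.single_eq_same, mul_one] at h1
      exact ⟨rfl, sgn2_inj _ _ h1⟩
    · rw [Finsupp.single_eq_of_ne hij, mul_zero] at h1
      exact absurd h1 (sgn2_ne c)
  have hmul : ∀ g h i, σ0 (g * h) i = σ0 g (σ0 h i) ∧ ε (g * h) i = ε h i + ε g (σ0 h i) := by
    intro g h i
    refine huniq ?_
    rw [← hσε, apply_mul, hσε h, map_smul, hσε g, smul_smul, sgn2_add]
  have hone : ∀ i, σ0 1 i = i ∧ ε 1 i = 0 := by
    intro i
    refine huniq ?_
    rw [← hσε, map_one, Module.End.one_apply, show sgn2 0 = 1 from rfl, one_smul]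
  let σ : L →* Perm (Fin n) :=
    { toFun := fun g => ⟨σ0 g, σ0 g⁻¹, fun i => by rw [← (hmul g⁻¹ g i).1, inv_mul_cancel, (hone i).1],
        fun i => by rw [← (hmul g g⁻¹ i).1, mul_inv_cancel, (hone i).1]⟩
      map_one' := Equiv.ext fun i => (hone i).1
      map_mul' := fun g h => Equiv.ext fun i => (hmul g h i).1 }
  have hσ : ∀ g i, σ g i = σ0 g i := fun g i => rfl
  have hfaith : ∀ g h, σ g = σ h → (∀ i, ε g i = ε h i) → g = h := fun g h h1 h2 => S.faithful
    (v.ext fun i => by rw [hσε, hσε, ← hσ, h1, hσ, h2])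
  have htr : ∀ i j : Fin n, ∃ g, σ g i = j := by
    intro i j
    obtain ⟨g, hg⟩ := htr0 (en.symm i) (en.symm j)
    refine ⟨g, ?_⟩
    rw [← hv', ← hv', hσε] at hg
    rw [hσ]
    rcases hg with h | h
    · exact (huniq (c := ε g i) (d := 0) (by rw [h, show sgn2 0 = 1 from rfl, one_smul])).1
    · exact (huniq (c := ε g i) (d := 1) (by rw [h, show sgn2 1 = -1 from rfl, neg_one_smul])).1
  -- `b` is a three-cycle
  have hb3 : σ S.b ^ 3 = 1 := by rw [← map_pow, S.b3, map_one]
  have hbne : σ S.b ≠ 1 := by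
    intro h
    set i := en i00
    have h1 : σ0 S.b i = i := by rw [← hσ, h, Perm.one_apply]
    have h2 := hσε S.b i
    rw [h1, hv', symm_apply_apply] at h2
    rcases zmod_two_cases (ε S.b i) with h3 | h3 <;> rw [h3] at h2
    · exact hi00.1 (by rw [h2, show sgn2 0 = 1 from rfl, one_smul])
    · exact hi00.2 (by rw [h2, show sgn2 1 = -1 from rfl, neg_one_smul])
  have hcyc : (σ S.b).IsThreeCycle := by
    obtain ⟨i, hi⟩ : ∃ i, σ S.b i ≠ i := by
      by_contra! hcon
      exact hbne (Equiv.ext hcon)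
    set j := σ S.b i with hj
    set k := σ S.b j with hk
    have hki : σ S.b k = i := by simpa [pow_succ, hk, hj] using Equiv.ext_iff.mp hb3 i
    have hkj : k ≠ j := fun h => hi ((σ S.b).injective h)
    have hik : i ≠ k := fun h => hi (by
      have h' : σ S.b i = i := by conv_lhs => rw [h]; rw [hki]
      exact h')
    refine card_support_eq_three_iff.mp ?_
    suffices hsub : (σ S.b).support = {i, j, k} by
      rw [hsub, Finset.card_eq_three.mpr ⟨i, j, k, Ne.symm hi, hik, hkj.symm, rfl⟩]
    refine Finset.ext fun l => ⟨fun hl => ?_, fun hl => ?_⟩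
    · by_contra hl'
      simp only [Finset.mem_insert, Finset.mem_singleton, not_or] at hl'
      obtain ⟨hli, hlj, hlk⟩ := hl'
      rw [Perm.mem_support] at hl
      have hmli : σ S.b l ≠ i := fun h => hlk ((σ S.b).injective (h.trans hki.symm))
      have hmlj : σ S.b l ≠ j := fun h => hli ((σ S.b).injective h)
      have hmlk : σ S.b l ≠ k := fun h => hlj ((σ S.b).injective h)
      refine no_three S.π S.rank ![S.π S.b (v i) - v i, S.π S.b (v j) - v j, S.π S.b (v l) - v l]
        (fun r => by fin_cases r <;> exact sub_one_mem S.π _ _) (linearIndependent_three ?_)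
      intro α β γ hsum
      rw [hσε, hσε, hσε, ← hσ, ← hσ, ← hσ, ← hj, ← hk] at hsum
      have coord : ∀ r, α * (sgn2 (ε S.b i) * (if j = r then 1 else 0) - (if i = r then 1 else 0)) +
          β * (sgn2 (ε S.b j) * (if k = r then 1 else 0) - (if j = r then 1 else 0)) +
          γ * (sgn2 (ε S.b l) * (if σ S.b l = r then 1 else 0) - (if l = r then 1 else 0)) = 0 := by
        intro r
        have h1 := congrArg (fun w => v.repr w r) hsum
        simpa [Finsupp.single_apply] using h1
      have c1 := coord i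
      have c2 := coord k
      have c3 := coord l
      simp [hi, hik, Ne.symm hik, hkj.symm, hli, hlj, hlk, Ne.symm hlk, Ne.symm hli, hmli, hmlk, hl,
        sgn2_ne, Ne.symm hlj] at c1 c2 c3
      exact ⟨c1, c2, c3⟩
    · simp only [Finset.mem_insert, Finset.mem_singleton] at hl
      rw [Perm.mem_support]
      rcases hl with rfl | rfl | rfl
      · exact hi
      · exact hkj
      · rw [hki]; exact hik
  -- conjugates of `b` generate
  have hX : Group.IsSolvable σ.range :=
    haveI := S.isSolvable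
    solvable_of_surjective σ.rangeRestrict_surjective
  have hgen : ∀ H : Subgroup L, (∀ g, g * S.b * g⁻¹ ∈ H) → H = ⊤ := by
    intro H hH
    refine eq_top_iff.mpr (S.normalB_eq_top ▸ (Subgroup.closure_le _).mpr fun x hx => ?_)
    obtain ⟨y, hy, hyx⟩ := Group.mem_conjugatesOfSet_iff.mp hx
    obtain ⟨g, hg⟩ := isConj_iff.mp (hy ▸ hyx)
    exact hg ▸ hH g
  have hcycg : ∀ g, (σ (g * S.b * g⁻¹)).IsThreeCycle := fun g => by
    rw [← card_support_eq_three_iff, map_mul, map_mul, map_inv,
      Perm.card_support_conj, hcyc.card_support]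
  -- at most four lines
  have hn4 : n ≤ 4 := by
    by_contra hn
    push Not at hn
    set T1 := (σ S.b).support with hT1
    -- a second triple
    have hT : ∀ O : Finset (Fin n), O.Nonempty → O.card < n →
        ∃ g, ¬ Disjoint (σ (g * S.b * g⁻¹)).support O ∧ ¬ (σ (g * S.b * g⁻¹)).support ⊆ O := by
      intro O hO hcard
      by_contra! hcon
      have hinv : (MulAction.stabilizer (Perm (Fin n)) (O : Set (Fin n))).comap σ = ⊤ := by
        refine hgen _ fun g => ?_
        rw [Subgroup.mem_comap, MulAction.mem_stabilizer_iff]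
        set p := σ (g * S.b * g⁻¹)
        refine Set.eq_of_subset_of_ncard_le ?_ ?_ O.finite_toSet
        · rintro _ ⟨x, hx, rfl⟩
          show p x ∈ (O : Set (Fin n))
          by_cases hd : Disjoint p.support O
          · rw [Perm.notMem_support.mp fun h => Finset.disjoint_left.mp hd h hx]; exact hx
          · by_cases hxs : x ∈ p.support
            · exact hcon g hd (Perm.apply_mem_support.mpr hxs)
            · rw [Perm.notMem_support.mp hxs]; exact hx
        · rw [← Set.image_smul, Set.ncard_image_of_injective _ (MulAction.injective p)]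
      obtain ⟨x, hx⟩ := hO
      obtain ⟨y, hy⟩ : ∃ y, y ∉ O := by
        by_contra! hall
        rw [Finset.eq_univ_iff_forall.mpr hall, Finset.card_univ, Fintype.card_fin] at hcard
        omega
      obtain ⟨g, hg⟩ := htr x y
      have hgS := hinv ▸ Subgroup.mem_top g
      rw [Subgroup.mem_comap, MulAction.mem_stabilizer_iff] at hgS
      have : σ g • x ∈ σ g • (O : Set (Fin n)) := Set.smul_mem_smul_set hx
      rw [hgS, Perm.smul_def, hg] at this
      exact hy this
    have nomeet : ∀ g h, (((σ (g * S.b * g⁻¹)).support ∩ (σ (h * S.b * h⁻¹)).support).card) ≠ 1 :=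
      fun g h hc => no_single_meet hX ⟨_, rfl⟩ ⟨_, rfl⟩ (hcycg g) (hcycg h) hc
    have hcardT : ∀ g, (σ (g * S.b * g⁻¹)).support.card = 3 := fun g => (hcycg g).card_support
    have hT1' : (σ (1 * S.b * 1⁻¹)).support = T1 := by rw [one_mul, inv_one, mul_one]
    have hT1c : T1.card = 3 := hcyc.card_support
    obtain ⟨g2, hmeet, hnsub⟩ := hT T1 (Finset.card_pos.mp (by omega)) (by omega)
    set T2 := (σ (g2 * S.b * g2⁻¹)).support with hT2
    have h2card : (T1 ∩ T2).card = 2 := by
      have a1 := nomeet 1 g2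
      rw [hT1', ← hT2] at a1
      have a2 : (T1 ∩ T2).card ≠ 0 := fun h0 => hmeet
        (Finset.disjoint_iff_inter_eq_empty.mpr (by rw [Finset.inter_comm]; exact Finset.card_eq_zero.mp h0))
      have a3 : (T1 ∩ T2).card ≠ 3 := fun h3 => hnsub (by
        have := Finset.eq_of_subset_of_card_le (Finset.inter_subset_right : T1 ∩ T2 ⊆ T2)
          (by rw [h3, hT2, hcardT])
        exact this ▸ Finset.inter_subset_left)
      have := Finset.card_le_card (Finset.inter_subset_left : T1 ∩ T2 ⊆ T1)
      omega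
    set O := T1 ∪ T2 with hO
    have hOc : O.card = 4 := by
      have := Finset.card_union_add_card_inter T1 T2
      have := hcardT g2
      rw [← hT2] at this
      rw [← hO] at *
      omega
    obtain ⟨g3, hmeet3, hnsub3⟩ := hT O (Finset.card_pos.mp (by omega)) (by omega)
    set T3 := (σ (g3 * S.b * g3⁻¹)).support with hT3
    -- every triple in `O` is a support
    have hall : ∀ T ⊆ O, T.card = 3 → ∃ g, (σ (g * S.b * g⁻¹)).support = T := by
      intro T hTO hTc
      have hconj : ∀ h g, (σ (h * g * S.b * (h * g)⁻¹)).support =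
          (σ (g * S.b * g⁻¹)).support.map (σ h).toEmbedding := by
        intro h g
        rw [show h * g * S.b * (h * g)⁻¹ = h * (g * S.b * g⁻¹) * h⁻¹ by group, map_mul, map_mul,
          map_inv, Perm.support_conj]
      have hb_stable : ∀ x ∈ T1, σ S.b x ∈ T1 := fun x hx => Perm.apply_mem_support.mpr hx
      have hout : ∀ x, x ∉ T1 → σ S.b x = x := fun x hx => Perm.notMem_support.mp hx
      obtain ⟨d, hd⟩ := Finset.card_eq_one.mp (show (T2 \ T1).card = 1 by
        have h1 := Finset.card_sdiff_add_card_inter T2 T1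
        rw [Finset.inter_comm, h2card, hcardT] at h1
        omega)
      obtain ⟨m, hm⟩ := Finset.card_eq_one.mp (show (O \ T).card = 1 by
        rw [Finset.card_sdiff_of_subset hTO]; omega)
      have hTeq : T = O.erase m := by
        refine Finset.eq_of_subset_of_card_le (fun x hx => Finset.mem_erase.mpr ⟨?_, hTO hx⟩) ?_
        · rintro rfl
          exact (Finset.mem_sdiff.mp (hm ▸ Finset.mem_singleton_self x)).2 hx
        · rw [Finset.card_erase_of_mem (Finset.mem_sdiff.mp (hm ▸ Finset.mem_singleton_self m)).1]; omega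
      have hdT : d ∈ T2 ∧ d ∉ T1 := Finset.mem_sdiff.mp (hd ▸ Finset.mem_singleton_self d)
      have hmO : m ∈ O := (Finset.mem_sdiff.mp (hm ▸ Finset.mem_singleton_self m)).1
      by_cases hmd : m = d
      · refine ⟨1, ?_⟩
        rw [hT1', hTeq, hmd, hO]
        refine Finset.eq_of_subset_of_card_le (fun x hx => Finset.mem_erase.mpr
          ⟨fun h => hdT.2 (h ▸ hx), Finset.mem_union_left _ hx⟩) ?_
        rw [Finset.card_erase_of_mem (Finset.mem_union_right _ hdT.1)]
        rw [hO] at hOc
        omega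
      · have hmT1 : m ∈ T1 := by
          rcases Finset.mem_union.mp hmO with h | h
          · exact h
          · by_contra hh
            exact hmd (Finset.mem_singleton.mp (hd ▸ Finset.mem_sdiff.mpr ⟨h, hh⟩))
        obtain ⟨c0, hc0⟩ := Finset.card_eq_one.mp (show (T1 \ T2).card = 1 by
          have h1 := Finset.card_sdiff_add_card_inter T1 T2
          rw [h2card, hT1c] at h1
          omega)
        have hc0T : c0 ∈ T1 ∧ c0 ∉ T2 := Finset.mem_sdiff.mp (hc0 ▸ Finset.mem_singleton_self c0)
        -- rotate `c0` to `m`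
        obtain ⟨i, hi⟩ : ∃ i : ℕ, (σ S.b ^ i) c0 = m := by
          obtain ⟨i, -, hi⟩ := (hcyc.isCycle.sameCycle (Perm.mem_support.mp hc0T.1)
            (Perm.mem_support.mp hmT1)).exists_pow_eq'
          exact ⟨i, hi⟩
        refine ⟨S.b ^ i * g2, ?_⟩
        rw [hconj, hTeq]
        have hpow_stable : ∀ x ∈ O, (σ S.b ^ i) x ∈ O := by
          intro x hx
          by_cases hxT : x ∈ T1
          · exact Finset.mem_union_left _ (Perm.pow_apply_mem_support.mpr hxT)
          · rw [Perm.pow_apply_eq_self_of_apply_eq_self (hout x hxT)]; exact hx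
        refine Finset.eq_of_subset_of_card_le (fun y hy => ?_) ?_
        · obtain ⟨x, hx, rfl⟩ := Finset.mem_map.mp hy
          rw [Equiv.coe_toEmbedding, map_pow]
          refine Finset.mem_erase.mpr ⟨fun h => hc0T.2 ?_, hpow_stable x (Finset.mem_union_right _ hx)⟩
          exact ((σ S.b ^ i).injective (h.trans hi.symm)) ▸ hx
        · rw [Finset.card_erase_of_mem hmO, Finset.card_map, hcardT]; omega
    have hk : (T3 ∩ O).card = 1 ∨ (T3 ∩ O).card = 2 := by
      have a2 : (T3 ∩ O).card ≠ 0 := fun h0 => hmeet3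
        (Finset.disjoint_iff_inter_eq_empty.mpr (Finset.card_eq_zero.mp h0))
      have a3 : (T3 ∩ O).card ≠ 3 := fun h3 => hnsub3 (by
        have := Finset.eq_of_subset_of_card_le (Finset.inter_subset_left : T3 ∩ O ⊆ T3)
          (by rw [h3, hT3, hcardT])
        exact this ▸ Finset.inter_subset_right)
      have := Finset.card_le_card (Finset.inter_subset_left : T3 ∩ O ⊆ T3)
      have := hcardT g3
      rw [← hT3] at this
      omega
    obtain ⟨x, hx⟩ : (T3 ∩ O).Nonempty := Finset.card_pos.mp (by omega)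
    have hx' := Finset.mem_inter.mp hx
    obtain ⟨T, hTs, hTT, hTc⟩ := Finset.exists_subsuperset_card_eq
      (s := ({x} : Finset (Fin n))) (t := insert x (O \ T3)) (n := 3)
      (Finset.singleton_subset_iff.mpr (Finset.mem_insert_self _ _)) (by simp) (by
        rw [Finset.card_insert_of_notMem (fun h => (Finset.mem_sdiff.mp h).2 hx'.1)]
        have := Finset.card_sdiff_add_card_inter O T3
        rw [Finset.inter_comm] at this
        omega)
    have hTO : T ⊆ O := fun y hy => by
      rcases Finset.mem_insert.mp (hTT hy) with rfl | h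
      · exact hx'.2
      · exact (Finset.mem_sdiff.mp h).1
    obtain ⟨g, hg⟩ := hall T hTO hTc
    refine nomeet g g3 ?_
    rw [hg, ← hT3, Finset.card_eq_one]
    refine ⟨x, Finset.eq_singleton_iff_unique_mem.mpr ⟨Finset.mem_inter.mpr
      ⟨hTs (Finset.mem_singleton_self x), hx'.1⟩, fun y hy => ?_⟩⟩
    rcases Finset.mem_insert.mp (hTT (Finset.mem_inter.mp hy).1) with h | h
    · exact h
    · exact absurd (Finset.mem_inter.mp hy).2 (Finset.mem_sdiff.mp h).2
  -- parities
  have htwo : ∀ {A : Type} [CommGroup A], (∀ a : A, a ^ 2 = 1) → ∀ (f : L →* A) (g : L), f g = 1 := by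
    intro A _ hA f g
    have hb : f S.b = 1 := by
      have h1 : f S.b ^ 3 = 1 := by rw [← map_pow, S.b3, map_one]
      rwa [pow_succ, hA, one_mul] at h1
    have hker : f.ker = ⊤ := S.top_of_R_le_b_mem (S.R_le_of_b_mem hb) hb
    exact MonoidHom.mem_ker.mp (hker ▸ Subgroup.mem_top g)
  have hsign : ∀ g, Perm.sign (σ g) = 1 :=
    htwo Int.units_sq (Perm.sign.comp σ)
  have hsum : ∀ g, ∑ i, ε g i = 0 := by
    intro g
    let f : L →* Multiplicative (ZMod 2) :=
      { toFun := fun g => Multiplicative.ofAdd (∑ i, ε g i)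
        map_one' := by simp [fun i => (hone i).2]
        map_mul' := fun x y => by
          rw [← ofAdd_add, Finset.sum_congr rfl fun i _ => (hmul x y i).2, Finset.sum_add_distrib,
            add_comm]
          congr 2
          exact Equiv.sum_comp (σ y) (ε x) }
    exact ofAdd_eq_one.mp (htwo (by decide) f g)
  have hRord : ∀ r ∈ S.R, σ r ^ 3 = 1 → σ r = 1 := by
    intro r hr h
    have h1 : σ r ^ (Nat.card S.R) = 1 := by
      rw [← map_pow, show r ^ Nat.card S.R = 1 from congrArg Subtype.val (pow_card_eq_one' (x := (⟨r, hr⟩ : S.R))), map_one]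
    have := pow_gcd_eq_one.mpr ⟨h1, h⟩
    rwa [S.copR.gcd_eq_one, pow_one] at this
  haveI := S.normalR
  have hn3 : 3 ≤ n := by
    have := S.sq_ne_zero.2
    rwa [finrank_eq_card_basis v, Fintype.card_fin] at this
  rcases (show n = 3 ∨ n = 4 by omega) with hn | hn
  · -- three lines: the kernel is the four-group
    subst hn
    left
    have h31 : ∀ s : Perm (Fin 3), Perm.sign s = 1 → s ^ 3 = 1 := by decide +kernel
    have hker : ∀ r ∈ S.R, σ r = 1 := fun r hr => hRord r hr (h31 _ (hsign r))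
    let f : S.R → {e : Fin 3 → ZMod 2 // e 0 + e 1 + e 2 = 0} := fun r =>
      ⟨ε r, by have := hsum r; rwa [Fin.sum_univ_three] at this⟩
    have hf : Function.Injective f := fun r s h => Subtype.ext (hfaith _ _
      (by rw [hker r r.2, hker s s.2]) (fun i => congrFun (congrArg Subtype.val h) i))
    have hcard : Nat.card S.R ≤ 4 := by
      refine (Nat.card_le_card_of_injective f hf).trans (le_of_eq ?_)
      rw [Nat.card_eq_fintype_card]
      decide
    have hRQ : S.R = S.Q := (Subgroup.eq_of_le_of_card_ge S.hQR (by rw [S.Qcard]; exact hcard)).symm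
    exact ⟨by rw [hRQ]; exact S.Qcomm, by rw [hRQ]; exact S.Qexp, by rw [hRQ]; exact S.Qcard⟩
  · subst hn
    let φ : L → (Fin 4 → ZMod 2) × Perm (Fin 4) := fun g => (ε g, σ g)
    have φmul : ∀ g h, φ (g * h) = smul4 (φ g) (φ h) := fun g h =>
      Prod.ext (funext fun i => (hmul g h i).2) (map_mul σ g h)
    have φinj : Function.Injective φ := fun g h he =>
      hfaith g h (congrArg Prod.snd he) (fun i => congrFun (congrArg Prod.fst he) i)
    have hsq : ∀ r ∈ S.R, σ r ^ 2 = 1 := fun r hr => by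
      rcases even_four _ (hsign r) with h | h
      · exact h
      · rw [hRord r hr h, one_pow]
    have φmem : ∀ r ∈ S.R, φ r ∈ hset := fun r hr => by
      refine Finset.mem_filter.mpr ⟨Finset.mem_univ _, ?_, hsq r hr, hsign r⟩
      have := hsum r
      rwa [Fin.sum_univ_four] at this
    -- `R` is transitive
    have hRtrans : ∀ j : Fin 4, ∃ r ∈ S.R, σ r 0 = j := by
      obtain ⟨f0, hf0⟩ : ∃ f0, σ S.b f0 = f0 := by
        by_contra! hcon
        have h4 : (σ S.b).support = Finset.univ :=
          Finset.eq_univ_iff_forall.mpr fun x => Perm.mem_support.mpr (hcon x)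
        have := hcyc.card_support
        rw [h4, Finset.card_univ, Fintype.card_fin] at this
        omega
      have hfrom : ∀ j, ∃ r ∈ S.R, σ r f0 = j := by
        intro j
        obtain ⟨g, hg⟩ := htr f0 j
        obtain ⟨r, hr, i, rfl⟩ := S.gen g
        refine ⟨r, hr, ?_⟩
        rwa [map_mul, Perm.mul_apply, map_pow, Perm.pow_apply_eq_self_of_apply_eq_self hf0] at hg
      intro j
      obtain ⟨r, hr, hr0⟩ := hfrom 0
      obtain ⟨s, hs, hsj⟩ := hfrom j
      refine ⟨s * r⁻¹, S.R.mul_mem hs (S.R.inv_mem hr), ?_⟩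
      rw [map_mul, Perm.mul_apply, map_inv, ← hr0, Perm.inv_def, Equiv.symm_apply_apply, hsj]
    have hVall : ∀ w : Perm (Fin 4), Perm.sign w = 1 → w ^ 2 = 1 → ∃ r ∈ S.R, σ r = w := by
      intro w hw hw2
      obtain ⟨r, hr, hr0⟩ := hRtrans (w 0)
      exact ⟨r, hr, four_unique _ _ (hsign r) hw (hsq r hr) hw2 hr0⟩
    let D : Subgroup L := S.R ⊓ σ.ker
    haveI : D.Normal := Subgroup.normal_inf_normal _ _
    by_cases hbig : ∃ r ∈ D, ∃ i j, ε r i ≠ ε r j
    · right
      obtain ⟨r0, hr0, hr0e⟩ := hbig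
      have hsum4 : ∀ g, ε g 0 + ε g 1 + ε g 2 + ε g 3 = 0 := fun g => by
        have := hsum g; rwa [Fin.sum_univ_four] at this
      -- all non-constant even sign vectors occur
      have hw2 : ∀ h : Fin 4 → ZMod 2, h 0 + h 1 + h 2 + h 3 = 0 → (∃ i j, h i ≠ h j) →
          ∃ r ∈ D, ε r = h := by
        intro h h1 h2
        obtain ⟨w, ⟨hw, hw2⟩, k, hk⟩ := four_two_trans (ε r0) h (σ S.b) hb3 hbne
          ⟨hsum4 r0, hr0e⟩ ⟨h1, h2⟩
        obtain ⟨r, -, hrw⟩ := hVall w hw hw2
        set g := r * S.b ^ (k : ℕ)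
        have hgσ : σ g = w * σ S.b ^ (k : ℕ) := by rw [map_mul, map_pow, hrw]
        refine ⟨g * r0 * g⁻¹, Subgroup.Normal.conj_mem inferInstance _ hr0 g, funext fun j => ?_⟩
        obtain ⟨i, rfl⟩ := (σ g).surjective j
        have e1 := (hmul (g * r0 * g⁻¹) g i).2
        rw [inv_mul_cancel_right, (hmul g r0 i).2, ← hσ r0, MonoidHom.mem_ker.mp hr0.2,
          Perm.one_apply, ← hσ g, add_comm (ε r0 i), add_right_inj] at e1
        rw [← e1, ← hk i, hgσ]
      have hD : ∀ h : Fin 4 → ZMod 2, h 0 + h 1 + h 2 + h 3 = 0 → ∃ r ∈ D, ε r = h := by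
        intro h h1
        by_cases hc : ∃ i j, h i ≠ h j
        · exact hw2 h h1 hc
        push Not at hc
        obtain ⟨r1, hr1, he1⟩ := hw2 ![1, 1, 0, 0] (by decide) ⟨0, 2, by decide⟩
        obtain ⟨r2, hr2, he2⟩ := hw2 ![0, 0, 1, 1] (by decide) ⟨0, 2, by decide⟩
        rcases zmod_two_cases (h 0) with h0 | h0
        · exact ⟨1, D.one_mem, funext fun i => by rw [(hone i).2, hc i 0, h0]⟩
        · refine ⟨r1 * r2, D.mul_mem hr1 hr2, funext fun i => ?_⟩
          rw [(hmul r1 r2 i).2, ← hσ, MonoidHom.mem_ker.mp hr2.2, Perm.one_apply, he1, he2, hc i 0, h0]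
          fin_cases i <;> rfl
      have hsurj : ∀ x ∈ hset, ∃ r ∈ S.R, φ r = x := by
        intro x hx
        obtain ⟨hxs, hx2, hxsign⟩ := (Finset.mem_filter.mp hx).2
        obtain ⟨r, hr, hrw⟩ := hVall x.2 hxsign hx2
        obtain ⟨d, hd, hde⟩ := hD (fun i => x.1 i + ε r i) (by
          have := hsum4 r
          calc x.1 0 + ε r 0 + (x.1 1 + ε r 1) + (x.1 2 + ε r 2) + (x.1 3 + ε r 3)
              = (x.1 0 + x.1 1 + x.1 2 + x.1 3) + (ε r 0 + ε r 1 + ε r 2 + ε r 3) := by abel
            _ = 0 := by rw [hxs, this, add_zero])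
        refine ⟨r * d, S.R.mul_mem hr hd.1, Prod.ext (funext fun i => ?_) ?_⟩
        · show ε (r * d) i = _
          rw [(hmul r d i).2, ← hσ, MonoidHom.mem_ker.mp hd.2, Perm.one_apply, hde, add_assoc,
            CharTwo.add_self_eq_zero, add_zero]
        · show σ (r * d) = _
          rw [map_mul, MonoidHom.mem_ker.mp hd.2, mul_one, hrw]
      have e : S.R ≃ hset := Equiv.ofBijective (fun r => ⟨φ r, φmem r r.2⟩)
        ⟨fun a c h => Subtype.ext (φinj (congrArg Subtype.val h)), fun x => by
          obtain ⟨r, hr, he⟩ := hsurj x x.2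
          exact ⟨⟨r, hr⟩, Subtype.ext he⟩⟩
      have hcardR : Nat.card S.R = 32 := by
        rw [Nat.card_congr e, Nat.card_eq_fintype_card, Fintype.card_coe, card_hset]
      obtain ⟨z, hzR, hz⟩ := hsurj (fun _ => 1, 1) (by decide +kernel)
      have hzc : (⟨z, hzR⟩ : S.R) ∈ Subgroup.center S.R := Subgroup.mem_center_iff.mpr fun y =>
        Subtype.ext (φinj (by
          show φ (y * z) = φ (z * y)
          rw [φmul, φmul, hz]
          exact (hset_center' _ (φmem y y.2)).symm))
      have φ1 : φ 1 = (fun _ => 0, 1) := Prod.ext (funext fun i => (hone i).2) (map_one σ)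
      refine ⟨?_, hcardR, D, inf_le_left, ?_, ?_, ?_⟩
      · haveI : Fact (Nat.Prime 2) := ⟨Nat.prime_two⟩
        refine CfsgLib.Extraspecial.isExtraspecial_of
          (IsPGroup.of_card (n := 5) (by rw [hcardR]; norm_num)) ?_ ?_ ?_ ?_
        · rw [Nat.card_eq_two_iff]
          refine ⟨⟨1, Subgroup.one_mem _⟩, ⟨⟨z, hzR⟩, hzc⟩, fun h => ?_, Set.eq_univ_iff_forall.mpr ?_⟩
          · have h' : (1 : L) = z := congrArg (fun w : Subgroup.center S.R => ((w : S.R) : L)) h
            have := congrArg φ h'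
            rw [φ1, hz] at this
            exact absurd (congrFun (congrArg Prod.fst this) 0) (by decide)
          · rintro ⟨⟨x, hxR⟩, hx⟩
            have := hset_center (φ x) (φmem x hxR) fun y hy => by
              obtain ⟨r, hr, rfl⟩ := hsurj y hy
              rw [← φmul, ← φmul]
              exact congrArg φ (congrArg Subtype.val (Subgroup.mem_center_iff.mp hx ⟨r, hr⟩)).symm
            rcases this with h | h
            · exact Or.inl (Subtype.ext (Subtype.ext (φinj (h.trans φ1.symm))))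
            · exact Or.inr (Subtype.ext (Subtype.ext (φinj (h.trans hz.symm))))
        · intro a c
          rcases hset_comm _ (φmem a a.2) _ (φmem c c.2) with h | h
          · rw [← φmul, ← φmul] at h
            have h' : a * c = c * a := Subtype.ext (φinj h)
            rw [commutatorElement_eq_one_iff_mul_comm.mpr h']
            exact Subgroup.one_mem _
          · rw [← φmul, ← φmul, ← hz, ← φmul] at h
            have h' : a * c = ⟨z, hzR⟩ * (c * a) := Subtype.ext (φinj h)
            rw [commutatorElement_def, h']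
            simpa [mul_assoc] using hzc
        · intro a
          rcases hset_sq _ (φmem a a.2) with ⟨h1, h2⟩ | ⟨h1, h2⟩
          · have : a ^ 2 = 1 := Subtype.ext (φinj (by
              rw [sq]
              show φ ((a : L) * a) = φ 1
              rw [φmul, φ1]; exact Prod.ext (funext h1) h2))
            rw [this]; exact Subgroup.one_mem _
          · have : a ^ 2 = ⟨z, hzR⟩ := Subtype.ext (φinj (by
              rw [sq]
              show φ ((a : L) * a) = φ z
              rw [φmul, hz]; exact Prod.ext (funext h1) h2))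
            rw [this]; exact hzc
        · obtain ⟨x, hx, hxe⟩ := hsurj _ hx_mem
          obtain ⟨y, hy, hye⟩ := hsurj _ hy_mem
          refine ⟨⟨x, hx⟩, ⟨y, hy⟩, fun h => ?_⟩
          have := congrArg φ (congrArg Subtype.val (commutatorElement_eq_one_iff_mul_comm.mp h))
          simp only [Subgroup.coe_mul, φmul, hxe, hye] at this
          exact hxy_ne this
      · intro x hx y hy
        apply φinj
        rw [φmul, φmul]
        show (_, σ x * σ y) = (_, σ y * σ x)
        rw [MonoidHom.mem_ker.mp hx.2, MonoidHom.mem_ker.mp hy.2]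
        refine Prod.ext (funext fun i => ?_) rfl
        simp only [smul4, φ, MonoidHom.mem_ker.mp hx.2, MonoidHom.mem_ker.mp hy.2, Perm.one_apply]
        exact add_comm _ _
      · intro x hx
        apply φinj
        rw [sq, φmul, φ1]
        refine Prod.ext (funext fun i => ?_) (show σ x * σ x = 1 by rw [MonoidHom.mem_ker.mp hx.2, one_mul])
        show ε x i + ε x (σ x i) = 0
        rw [MonoidHom.mem_ker.mp hx.2, Perm.one_apply, CharTwo.add_self_eq_zero]
      · let f : D → {e : Fin 4 → ZMod 2 // e 0 + e 1 + e 2 + e 3 = 0} := fun r => ⟨ε r, hsum4 r⟩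
        have hf : Function.Bijective f :=
          ⟨fun r s h => Subtype.ext (hfaith _ _ ((MonoidHom.mem_ker.mp r.2.2).trans (MonoidHom.mem_ker.mp s.2.2).symm)
              (fun i => congrFun (congrArg Subtype.val h) i)), fun x => by
            obtain ⟨r, hr, he⟩ := hD x.1 x.2
            exact ⟨⟨r, hr⟩, Subtype.ext he⟩⟩
        rw [Nat.card_eq_of_bijective f hf, Nat.card_eq_fintype_card]
        decide
    · exfalso
      push Not at hbig
      have hscal : ∀ r ∈ D, ∃ c : ZMod 3, ∀ w, S.π r w = c • w := by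
        intro r hr
        refine ⟨sgn2 (ε r 0), fun w => LinearMap.congr_fun
          (v.ext (f₁ := S.π r) (f₂ := sgn2 (ε r 0) • 1) fun i => ?_) w⟩
        rw [hσε, ← hσ, MonoidHom.mem_ker.mp hr.2, Perm.one_apply, LinearMap.smul_apply,
          Module.End.one_apply, hbig r hr i 0]
      obtain ⟨w0, hw00, hw0⟩ := S.exists_Q_fixed (by rw [finrank_eq_card_basis v, Fintype.card_fin])
      have hQinj : ∀ x ∈ S.Q, ∀ y ∈ S.Q, σ x = σ y → x = y := by
        intro x hx y hy h
        have hxy : x⁻¹ * y ∈ D := ⟨S.R.mul_mem (S.R.inv_mem (S.hQR hx)) (S.hQR hy), by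
          show σ _ = 1; rw [map_mul, map_inv, h, inv_mul_cancel]⟩
        obtain ⟨c, hc⟩ := hscal _ hxy
        have h1 := hc w0
        rw [hw0 _ (S.Q.mul_mem (S.Q.inv_mem hx) hy)] at h1
        have hc1 : c = 1 := by
          by_contra hne
          have h2 : (1 - c) • w0 = 0 := by rw [sub_smul, one_smul, ← h1, sub_self]
          exact hw00 ((smul_eq_zero.mp h2).resolve_left (sub_ne_zero.mpr (Ne.symm hne)))
        refine inv_mul_eq_one.mp (S.faithful (LinearMap.ext fun w => ?_))
        rw [hc w, hc1, one_smul, map_one, Module.End.one_apply]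
      have hQsurj : ∀ r ∈ S.R, ∃ x ∈ S.Q, σ x = σ r := by
        intro r hr
        let V := {w : Perm (Fin 4) // Perm.sign w = 1 ∧ w ^ 2 = 1}
        let f : S.Q → V := fun x => ⟨σ x, hsign x, hsq x (S.hQR x.2)⟩
        have hfi : Function.Injective f := fun x y h =>
          Subtype.ext (hQinj x x.2 y y.2 (congrArg Subtype.val h))
        have hV : Nat.card V = 4 := by rw [Nat.card_eq_fintype_card]; decide +kernel
        obtain ⟨x, hx⟩ := (hfi.bijective_of_nat_card_le (by rw [hV, S.Qcard])).2 ⟨σ r, hsign r, hsq r hr⟩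
        exact ⟨x, x.2, congrArg Subtype.val hx⟩
      -- vectors fixed by `Q` form an invariant subspace
      let F : Submodule (ZMod 3) W :=
        { carrier := {w | ∀ x ∈ S.Q, S.π x w = w}
          zero_mem' := fun x _ => map_zero _
          add_mem' := fun {a c} ha hc x hx => by rw [map_add, ha x hx, hc x hx]
          smul_mem' := fun k a ha x hx => by rw [map_smul, ha x hx] }
      have hFinv : ∀ g : L, ∀ w ∈ F, S.π g w ∈ F := by
        have hb' : ∀ w ∈ F, S.π S.b w ∈ F := by
          intro w hw x hx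
          have hx' : S.b⁻¹ * x * S.b ∈ S.Q := by
            have := S.Qnorm _ (S.Qnorm x hx)
            rwa [show S.b * (S.b * x * S.b⁻¹) * S.b⁻¹ = S.b⁻¹ * (S.b ^ 3 * x * (S.b ^ 3)⁻¹) * S.b by
              simp only [pow_succ, pow_zero]; group, S.b3, one_mul, inv_one, mul_one] at this
          calc S.π x (S.π S.b w) = S.π S.b (S.π (S.b⁻¹ * x * S.b) w) := by
                rw [← apply_mul, ← apply_mul, ← mul_assoc, ← mul_assoc, mul_inv_cancel, one_mul]
            _ = S.π S.b w := by rw [hw _ hx']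
        intro g w hw
        obtain ⟨r, hr, i, rfl⟩ := S.gen g
        have hbi : ∀ i, S.π (S.b ^ i) w ∈ F := fun i => by
          induction i with
          | zero => rw [pow_zero, map_one]; exact hw
          | succ i ih => rw [pow_succ', apply_mul]; exact hb' _ ih
        rw [apply_mul]
        obtain ⟨q, hq, hqσ⟩ := hQsurj r hr
        have hd : q⁻¹ * r ∈ D := ⟨S.R.mul_mem (S.R.inv_mem (S.hQR hq)) hr, by
          show σ _ = 1; rw [map_mul, map_inv, hqσ, inv_mul_cancel]⟩
        obtain ⟨c, hc⟩ := hscal _ hd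
        intro x hx
        have e : ∀ y, S.π r y = S.π q (c • y) := fun y => by rw [← hc, ← apply_mul, mul_inv_cancel_left]
        rw [e, map_smul, hbi i q hq, map_smul, hbi i x hx]
      rcases S.irred F hFinv with h | h
      · have : w0 ∈ F := hw0
        rw [h, Submodule.mem_bot] at this
        exact hw00 this
      · obtain ⟨w, x, hx, hxw⟩ := S.exists_moved
        exact hxw ((h ▸ Submodule.mem_top : w ∈ F) x hx)

end Setting

end CfsgLib.CubicBlock
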