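import Cfsg.Agent.Lib.CubicBlock.Mono
import Cfsg.Agent.Lib.Extraspecial.Basics
import Cfsg.Agent.Lib.Extraspecial.DimBound
import Cfsg.Agent.Lib.Fitting.Basic
import Cfsg.Agent.Lib.Coprime.Action

/-!
All abelian normal subgroups of the kernel act by signs: the kernel is extraspecial of order 32.
-/

set_option autoImplicit false
set_option linter.unusedSectionVars false
set_option linter.style.haveILetI false
set_option linter.deprecated false

namespace CfsgLib.CubicBlock

open Module
open scoped commutatorElement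

/-- A soluble normal subgroup outside a normal subgroup centralizing it has a normal nilpotent
subgroup outside it. -/
theorem exists_nilpotent {G : Type*} [Group G] [Finite G] (C Z₀ : Subgroup G) [C.Normal]
    [Z₀.Normal] (hC : Group.IsSolvable C) (hcen : ∀ x ∈ C, ∀ y ∈ Z₀, x * y = y * x)
    (hne : ¬ C ≤ Z₀) :
    ∃ N : Subgroup G, N.Normal ∧ N ≤ C ∧ ¬ N ≤ Z₀ ∧ Group.IsNilpotent N := by
  classical
  obtain ⟨n, hn⟩ := hC.solvable
  let f : ℕ → Subgroup G := fun i => (derivedSeries C i).map C.subtype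
  have hex : ∃ i, f i ≤ Z₀ := ⟨n, by simp [f, hn]⟩
  have h0 : Nat.find hex ≠ 0 := by
    intro h
    have h' := Nat.find_spec hex
    rw [h] at h'
    exact hne (by simpa [f, ← MonoidHom.range_eq_map] using h')
  obtain ⟨i, hi⟩ : ∃ i, Nat.find hex = i + 1 := ⟨Nat.find hex - 1, by omega⟩
  have hmin : ¬ f i ≤ Z₀ := Nat.find_min hex (by omega)
  have hspec : f (i + 1) ≤ Z₀ := hi ▸ Nat.find_spec hex
  haveI := derivedSeries_normal C i
  haveI : (derivedSeries C i).Characteristic := derivedSeries_characteristic C i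
  refine ⟨f i, inferInstanceAs ((derivedSeries C i).map C.subtype).Normal, Subgroup.map_subtype_le _,
    hmin, ?_⟩
  set N := f i with hN
  have hcomm : ∀ x y : N, ⁅x, y⁆ ∈ Subgroup.center N := by
    intro x y
    rw [Subgroup.mem_center_iff]
    intro w
    refine Subtype.ext (hcen _ (Subgroup.map_subtype_le _ w.2) _ (hspec ?_))
    show ((⁅x, y⁆ : N) : G) ∈ (derivedSeries C (i + 1)).map C.subtype
    rw [derivedSeries_succ, Subgroup.map_commutator]
    exact Subgroup.commutator_mem_commutator x.2 y.2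
  letI : CommGroup (N ⧸ Subgroup.center N) :=
    { (inferInstance : Group (N ⧸ Subgroup.center N)) with
      mul_comm := fun a c => by
        obtain ⟨a, rfl⟩ := QuotientGroup.mk_surjective a
        obtain ⟨c, rfl⟩ := QuotientGroup.mk_surjective c
        rw [← commutatorElement_eq_one_iff_mul_comm]
        exact (QuotientGroup.eq_one_iff _).mpr (hcomm a c) }
  exact Group.of_quotient_center_nilpotent inferInstance

/-- The Sylow part of a normal nilpotent subgroup. -/
theorem exists_normal_part {G : Type*} [Group G] [Finite G] (N : Subgroup G) [N.Normal]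
    (hN : Group.IsNilpotent N) (q : ℕ) [Fact q.Prime] :
    ∃ Q : Subgroup G, Q.Normal ∧ Q ≤ N ∧ IsPGroup q Q ∧
      Nat.card Q = q ^ (Nat.card N).factorization q := by
  haveI := hN
  obtain ⟨T⟩ := (inferInstance : Nonempty (Sylow q N))
  haveI : (T : Subgroup N).Normal := by
    have h := (Group.isNilpotent_of_finite_tfae (G := N)).out 0 3
    exact (h.mp hN) q inferInstance T
  haveI : (T : Subgroup N).Characteristic := T.characteristic_of_normal inferInstance
  refine ⟨(T : Subgroup N).map N.subtype, inferInstance, Subgroup.map_subtype_le _, T.2.map _, ?_⟩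
  rw [Subgroup.card_map_of_injective N.subtype_injective, T.card_eq_multiplicity]

namespace Setting

variable {L : Type*} [Group L] [Finite L] {W : Type*} [AddCommGroup W] [Module (ZMod 3) W]
  [Finite W] (S : Setting L W)

/-- All abelian normal subgroups of the kernel act by signs. -/
def Signs : Prop :=
  ∀ M : Subgroup L, M.Normal → M ≤ S.R → (∀ x ∈ M, ∀ y ∈ M, x * y = y * x) →
    ∀ x ∈ M, S.π x = 1 ∨ S.π x = -1

theorem sq_of_sign {x : L} (h : S.π x = 1 ∨ S.π x = -1) : x ^ 2 = 1 :=
  S.faithful (by rcases h with h | h <;> rw [map_pow, map_one, h] <;> simp)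

theorem odd_normal_bot (hs : S.Signs) {q : ℕ} [Fact q.Prime] (hq : q ≠ 2) {N : Subgroup L}
    [N.Normal] (hNR : N ≤ S.R) (hp : IsPGroup q N) : N = ⊥ := by
  by_contra hne
  haveI : Nontrivial N := (Subgroup.nontrivial_iff_ne_bot N).mpr hne
  haveI := hp.center_nontrivial
  obtain ⟨⟨x, hx⟩, hx1⟩ := exists_ne (1 : Subgroup.center N)
  set M := (Subgroup.center N).map N.subtype
  have hsq := S.sq_of_sign (hs M inferInstance ((Subgroup.map_subtype_le _).trans hNR)
    (by
      rintro _ ⟨a, ha, rfl⟩ _ ⟨c, hc, rfl⟩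
      exact (congrArg Subtype.val (Subgroup.mem_center_iff.mp ha c)).symm)
    x ⟨x, hx, rfl⟩)
  obtain ⟨k, hk⟩ := hp x
  have h2 : x ^ 2 = 1 := Subtype.ext hsq
  have hgcd := pow_gcd_eq_one.mpr ⟨h2, hk⟩
  have hc : Nat.Coprime 2 (q ^ k) :=
    Nat.Coprime.pow_right _ ((Nat.coprime_primes Nat.prime_two (Fact.out : q.Prime)).mpr (Ne.symm hq))
  rw [hc.gcd_eq_one, pow_one] at hgcd
  exact hx1 (Subtype.ext hgcd)

/-- The largest normal two-subgroup. -/
def P : Subgroup L := Cfsg.pCore 2 L

theorem P_normal : (P (L := L)).Normal := CfsgLib.Fitting.pCore_normal 2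

theorem le_P_of_nilpotent (hs : S.Signs) {N : Subgroup L} [N.Normal] (hNR : N ≤ S.R)
    (hN : Group.IsNilpotent N) : N ≤ P := by
  refine CfsgLib.Fitting.le_pCore inferInstance ?_
  have hall : ∀ q, q.Prime → q ∣ Nat.card N → q = 2 := by
    intro q hq hdvd
    haveI := Fact.mk hq
    by_contra hne
    obtain ⟨Q, hQn, hQN, hQp, hQc⟩ := exists_normal_part N hN q
    haveI := hQn
    have hbot := S.odd_normal_bot hs hne (hQN.trans hNR) hQp
    rw [hbot, Subgroup.card_bot] at hQc
    have := (hq.pow_dvd_iff_le_factorization (k := 1) Nat.card_pos.ne').mp (by rwa [pow_one])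
    exact absurd hQc.symm (Nat.one_lt_pow (by omega) hq.one_lt).ne'
  exact IsPGroup.of_card (n := (Nat.card N).primeFactorsList.length)
    (Nat.eq_prime_pow_of_unique_prime_dvd Nat.card_pos.ne' fun {d} hd hdv => hall d hd hdv)

theorem P_le_R : P ≤ S.R := by
  haveI := S.normalR
  intro x hx
  obtain ⟨k, hk⟩ := (CfsgLib.Fitting.pCore_isPGroup 2) (⟨x, hx⟩ : P (L := L))
  obtain ⟨r, hr, i, hxi⟩ := S.gen x
  rw [← QuotientGroup.eq_one_iff]
  have h1 : (x : L ⧸ S.R) ^ 3 = 1 := by
    rw [hxi, QuotientGroup.mk_mul, (QuotientGroup.eq_one_iff r).mpr hr, one_mul, QuotientGroup.mk_pow,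
      ← pow_mul, mul_comm, pow_mul, ← QuotientGroup.mk_pow, S.b3, QuotientGroup.mk_one, one_pow]
  have h2 : (x : L ⧸ S.R) ^ (2 ^ k) = 1 := by
    rw [← QuotientGroup.mk_pow, show x ^ 2 ^ k = 1 from congrArg Subtype.val hk, QuotientGroup.mk_one]
  have h3 := pow_gcd_eq_one.mpr ⟨h1, h2⟩
  rwa [(Nat.Coprime.pow_right k (by norm_num : Nat.Coprime 3 2)).gcd_eq_one, pow_one] at h3

theorem R_not_small {Z : Subgroup L} (hZ : ∀ x ∈ Z, S.π x = 1 ∨ S.π x = -1) : ¬ S.R ≤ Z := by
  intro hle
  obtain ⟨a, ha, ha1, hne, -⟩ := S.exists_triple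
  have hsign : ∀ x ∈ S.Q, x ≠ 1 → S.π x = -1 := fun x hx hx1 =>
    (hZ x (hle (S.hQR hx))).resolve_left fun h => hx1 (S.faithful (by rw [h, map_one]))
  exact hne (S.faithful ((hsign _ (S.Qnorm a ha) (fun h => ha1 (conj_eq_one_iff.mp h))).trans
    (hsign a ha ha1).symm))

set_option maxHeartbeats 1600000 in
theorem concl_of_signs (hs : S.Signs) : S.Concl := by
  classical
  haveI : Fact (Nat.Prime 2) := ⟨Nat.prime_two⟩
  haveI : Module.Finite (ZMod 3) W := Module.Finite.of_finite
  haveI := S.normalR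
  haveI hPn : (P (L := L)).Normal := P_normal
  haveI : Nontrivial W := by
    obtain ⟨v, x, -, hx⟩ := S.exists_moved
    exact ⟨⟨_, _, hx⟩⟩
  have hPR := S.P_le_R
  have hPp : IsPGroup 2 (P (L := L)) := CfsgLib.Fitting.pCore_isPGroup 2
  haveI := S.solvR
  have hsolvR : ∀ {C : Subgroup L}, C ≤ S.R → Group.IsSolvable C := fun {C} h =>
    solvable_of_solvable_injective (Subgroup.inclusion_injective h)
  -- the centre `Z` of `P`
  set Z : Subgroup L := P ⊓ Subgroup.centralizer ((P : Subgroup L) : Set L) with hZdef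
  haveI hZn : Z.Normal := Subgroup.normal_inf_normal _ _
  have hZcomm : ∀ x ∈ Z, ∀ y ∈ Z, x * y = y * x := fun x hx y hy => hy.2 x hx.1
  have hZsign : ∀ x ∈ Z, S.π x = 1 ∨ S.π x = -1 := hs Z hZn (inf_le_left.trans hPR) hZcomm
  have hcentral : ∀ x ∈ Z, ∀ g : L, g * x = x * g := fun x hx g => S.faithful (by
    rcases hZsign x hx with h | h <;> rw [map_mul, map_mul, h] <;> simp)
  -- nothing outside `Z` in a normal subgroup meeting `P` in `Z`
  have hsmall : ∀ C : Subgroup L, C.Normal → C ≤ S.R → C ⊓ P ≤ Z → C ≤ Z := by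
    intro C hCn hCR hCP
    haveI := hCn
    by_contra hne
    obtain ⟨N, hNn, hNC, hNZ, hNnil⟩ := exists_nilpotent C Z (hsolvR hCR)
      (fun x _ y hy => hcentral y hy x) hne
    haveI := hNn
    exact hNZ ((le_inf hNC (S.le_P_of_nilpotent hs (hNC.trans hCR) hNnil)).trans hCP)
  have hP1 : (P (L := L)) ≠ ⊥ := fun h => S.R_not_small hZsign
    (hsmall S.R inferInstance le_rfl (by rw [h, inf_bot_eq]; exact bot_le))
  obtain ⟨z, hz, hz1⟩ : ∃ z ∈ Z, z ≠ 1 := by
    haveI : Nontrivial (P (L := L)) := (Subgroup.nontrivial_iff_ne_bot _).mpr hP1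
    haveI := hPp.center_nontrivial
    obtain ⟨⟨⟨x, hxP⟩, hx⟩, hx1⟩ := exists_ne (1 : Subgroup.center (P (L := L)))
    exact ⟨x, ⟨hxP, fun y hy => congrArg Subtype.val (Subgroup.mem_center_iff.mp hx ⟨y, hy⟩)⟩,
      fun h => hx1 (Subtype.ext (Subtype.ext h))⟩
  have hzneg : S.π z = -1 := (hZsign z hz).resolve_left fun h => hz1 (S.faithful (by rw [h, map_one]))
  have hZmem : ∀ x : L, x ∈ Z ↔ x = 1 ∨ x = z := by
    refine fun x => ⟨fun hx => ?_, ?_⟩
    · rcases hZsign x hx with h | h
      · exact Or.inl (S.faithful (by rw [h, map_one]))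
      · exact Or.inr (S.faithful (by rw [h, hzneg]))
    · rintro (rfl | rfl)
      · exact Z.one_mem
      · exact hz
  have hMZ : ∀ M : Subgroup L, M.Normal → M ≤ S.R → (∀ x ∈ M, ∀ y ∈ M, x * y = y * x) → M ≤ Z :=
    fun M hM hMR hc x hx => by
      rcases hs M hM hMR hc x hx with h | h
      · rw [show x = 1 from S.faithful (by rw [h, map_one])]; exact Z.one_mem
      · rw [show x = z from S.faithful (by rw [h, hzneg])]; exact hz
  -- the second centre `U`
  set U : Subgroup L := P ⊓
    (Subgroup.centralizer (((P : Subgroup L).map (QuotientGroup.mk' Z)) : Set (L ⧸ Z))).comap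
      (QuotientGroup.mk' Z) with hUdef
  haveI : ((P : Subgroup L).map (QuotientGroup.mk' Z)).Normal :=
    hPn.map _ (QuotientGroup.mk'_surjective Z)
  haveI hUn : U.Normal := Subgroup.normal_inf_normal _ _
  have hUP : U ≤ P := inf_le_left
  have hUR : U ≤ S.R := hUP.trans hPR
  have hUcomm : ∀ u ∈ U, ∀ p ∈ (P : Subgroup L), ⁅p, u⁆ ∈ Z := by
    intro u hu p hp
    have h := (Subgroup.mem_comap.mp hu.2) _ (Subgroup.mem_map_of_mem _ hp)
    rw [← QuotientGroup.eq_one_iff, ← QuotientGroup.mk'_apply, map_commutatorElement,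
      commutatorElement_eq_one_iff_mul_comm]
    exact h
  have hUmem : ∀ x ∈ (P : Subgroup L), (∀ p ∈ (P : Subgroup L), ⁅p, x⁆ ∈ Z) → x ∈ U := by
    intro x hx h
    refine ⟨hx, Subgroup.mem_comap.mpr ?_⟩
    rintro _ ⟨p, hp, rfl⟩
    rw [← commutatorElement_eq_one_iff_mul_comm, ← map_commutatorElement]
    exact (QuotientGroup.eq_one_iff _).mpr (h p hp)
  have hZU : Z ≤ U := fun x hx => hUmem x hx.1 fun p _ => by
    rw [commutatorElement_eq_one_iff_mul_comm.mpr (hcentral x hx p)]; exact Z.one_mem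
  -- normal subgroups of `P` outside `Z` meet `U` outside `Z`
  have hmeet : ∀ D : Subgroup L, D.Normal → D ≤ P → ¬ D ≤ Z → ∃ x ∈ D, x ∈ U ∧ x ∉ Z := by
    intro D hDn hDP hDZ
    haveI := hDn
    set Pb := (P : Subgroup L).map (QuotientGroup.mk' Z)
    haveI : (D.map (QuotientGroup.mk' Z)).Normal := hDn.map _ (QuotientGroup.mk'_surjective Z)
    set Db := (D.map (QuotientGroup.mk' Z)).subgroupOf Pb
    have hDbne : Db ≠ ⊥ := by
      intro h
      apply hDZ
      intro x hx
      have : (⟨QuotientGroup.mk' Z x, Subgroup.mem_map_of_mem _ (hDP hx)⟩ : Pb) ∈ Db :=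
        Subgroup.mem_subgroupOf.mpr (Subgroup.mem_map_of_mem _ hx)
      rw [h, Subgroup.mem_bot] at this
      exact (QuotientGroup.eq_one_iff x).mp (congrArg Subtype.val this)
    haveI : Fact (IsPGroup 2 Pb) := ⟨hPp.map _⟩
    obtain ⟨⟨⟨_, hyP⟩, hy⟩, hy1⟩ := Subgroup.ne_bot_iff_exists_ne_one.mp
      (show Db ⊓ Subgroup.center Pb ≠ ⊥ from by
        haveI : Group.IsNilpotent Pb := (hPp.map _).isNilpotent
        exact Critical.inf_center_ne_bot Db hDbne)
    obtain ⟨x, hxD, hxe⟩ := Subgroup.mem_subgroupOf.mp hy.1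
    simp only at hxe
    subst hxe
    refine ⟨x, hxD, hUmem x (hDP hxD) fun p hp => ?_, fun h => hy1 (Subtype.ext (Subtype.ext
      ((QuotientGroup.eq_one_iff x).mpr h)))⟩
    have hc := congrArg Subtype.val (Subgroup.mem_center_iff.mp hy.2 ⟨_, Subgroup.mem_map_of_mem _ hp⟩)
    rw [← QuotientGroup.eq_one_iff, ← QuotientGroup.mk'_apply, map_commutatorElement,
      commutatorElement_eq_one_iff_mul_comm]
    exact hc
  have hCU : S.R ⊓ Subgroup.centralizer (U : Set L) ≤ Z := by
    refine hsmall _ (Subgroup.normal_inf_normal _ _) inf_le_left ?_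
    by_contra hne
    obtain ⟨x, hx, hxU, hxZ⟩ := hmeet _ (Subgroup.normal_inf_normal _ _) inf_le_right hne
    have hA : U ⊓ Subgroup.centralizer (U : Set L) ≤ Z :=
      hMZ _ (Subgroup.normal_inf_normal _ _) (inf_le_left.trans hUR) fun a ha c hc => hc.2 a ha.1
    exact hxZ (hA ⟨hxU, hx.1.2⟩)
  -- `U` is extraspecial
  have hUext : Cfsg.IsExtraspecial 2 U := by
    have hcen : ∀ x : U, x ∈ Subgroup.center U ↔ (x : L) ∈ Z := by
      intro x
      rw [Subgroup.mem_center_iff]
      refine ⟨fun h => hCU ⟨hUR x.2, fun y hy => congrArg Subtype.val (h ⟨y, hy⟩)⟩, fun h y => ?_⟩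
      exact Subtype.ext (hcentral _ h y)
    refine CfsgLib.Extraspecial.isExtraspecial_of (hPp.to_le hUP) ?_
      (fun a c => (hcen _).mpr (hUcomm _ c.2 _ (hUP a.2))) (fun a => (hcen _).mpr ⟨?_, ?_⟩) ?_
    · rw [Nat.card_eq_two_iff]
      refine ⟨⟨1, Subgroup.one_mem _⟩, ⟨⟨z, hZU hz⟩, (hcen _).mpr hz⟩,
        fun h => hz1 (congrArg (fun w : Subgroup.center U => ((w : U) : L)) h).symm,
        Set.eq_univ_iff_forall.mpr ?_⟩
      rintro ⟨⟨x, hxU⟩, hx⟩
      rcases (hZmem x).mp ((hcen _).mp hx) with rfl | rfl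
      · exact Or.inl rfl
      · exact Or.inr rfl
    · exact (P (L := L)).pow_mem (hUP a.2) 2
    · intro p hp
      have hc := hUcomm a a.2 p hp
      set c := ⁅p, (a : L)⁆ with hcdef
      have e1 : p * (a : L) = c * ((a : L) * p) := by rw [hcdef, commutatorElement_def]; group
      have hcc : c * c = 1 := by rw [← sq]; exact S.sq_of_sign (hZsign c hc)
      show p * (a : L) ^ 2 = (a : L) ^ 2 * p
      calc p * (a : L) ^ 2 = (p * (a : L)) * a := by rw [sq, mul_assoc]
        _ = c * ((a : L) * (p * a)) := by simp only [e1, mul_assoc]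
        _ = c * ((a : L) * c) * ((a : L) * p) := by simp only [mul_assoc]; rw [e1]
        _ = c * (c * (a : L)) * ((a : L) * p) := by rw [hcentral c hc]
        _ = (a : L) ^ 2 * p := by rw [← mul_assoc c c, hcc, one_mul, sq]; simp only [mul_assoc]
    · by_contra! hcon
      have hab : ∀ x ∈ U, ∀ y ∈ U, x * y = y * x := fun x hx y hy =>
        congrArg Subtype.val (commutatorElement_eq_one_iff_mul_comm.mp (hcon ⟨x, hx⟩ ⟨y, hy⟩))
      have hUZ := hMZ U hUn hUR hab
      by_cases hPZ : (P : Subgroup L) ≤ Z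
      · exact S.R_not_small hZsign (hsmall S.R inferInstance le_rfl (inf_le_right.trans hPZ))
      · obtain ⟨x, -, hxU, hxZ⟩ := hmeet P hPn le_rfl hPZ
        exact hxZ (hUZ hxU)
  -- centralizers modulo the centre
  have hker : ∀ r ∈ S.R, (∀ u ∈ U, ⁅r, u⁆ ∈ Z) → r ∈ U := by
    intro r hr hru
    have hzc : ∀ x : U, (x : L) ∈ Z → x ∈ Subgroup.center U := fun x hx =>
      Subgroup.mem_center_iff.mpr fun y => Subtype.ext (hcentral _ hx y)
    let χ : U →* U :=
      { toFun := fun u => ⟨⁅r, (u : L)⁆, hZU (hru u u.2)⟩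
        map_one' := Subtype.ext (commutatorElement_one_right r)
        map_mul' := fun u w => Subtype.ext (by
          show ⁅r, (u : L) * w⁆ = ⁅r, (u : L)⁆ * ⁅r, (w : L)⁆
          have hc := hcentral _ (hru w w.2) (u : L)
          rw [show ⁅r, (u : L) * w⁆ = ⁅r, (u : L)⁆ * ((u : L) * ⁅r, (w : L)⁆ * (u : L)⁻¹) by
            simp only [commutatorElement_def]; group, hc, mul_inv_cancel_right]) }
    obtain ⟨g, hg⟩ := CfsgLib.Extraspecial.exists_comm_eq_hom _ U hUext rfl χ
      (fun u => hzc _ (hru u u.2)) (fun x hx => Subtype.ext (by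
        show ⁅r, (x : L)⁆ = 1
        have hxZ : (x : L) ∈ Z := hCU ⟨hUR x.2, fun y hy =>
          congrArg Subtype.val (Subgroup.mem_center_iff.mp hx ⟨y, hy⟩)⟩
        exact commutatorElement_eq_one_iff_mul_comm.mpr (hcentral _ hxZ r)))
    have hmem : (g : L)⁻¹ * r ∈ S.R ⊓ Subgroup.centralizer (U : Set L) := by
      refine ⟨S.R.mul_mem (S.R.inv_mem (hUR g.2)) hr, fun u hu => ?_⟩
      have h : ⁅r, u⁆ = ⁅(g : L), u⁆ := congrArg Subtype.val (hg ⟨u, hu⟩)
      rw [commutatorElement_def, commutatorElement_def] at h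
      have h' : r * u * r⁻¹ = (g : L) * u * (g : L)⁻¹ := mul_right_cancel h
      calc u * ((g : L)⁻¹ * r) = (g : L)⁻¹ * ((g : L) * u * (g : L)⁻¹) * r := by group
        _ = (g : L)⁻¹ * r * u := by rw [← h']; group
    have := U.mul_mem g.2 (hZU (hCU hmem))
    rwa [mul_inv_cancel_left] at this
  -- a commutator of order four with `b`
  have hcomU : ∀ x ∈ U, ⁅x, S.b⁆ ∈ U := fun x hx => by
    rw [show ⁅x, S.b⁆ = x * (S.b * x⁻¹ * S.b⁻¹) by simp only [commutatorElement_def]; group]
    exact U.mul_mem hx (hUn.conj_mem _ (U.inv_mem hx) _)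
  obtain ⟨x, hxU, hx2⟩ : ∃ x ∈ U, ⁅x, S.b⁆ ^ 2 ≠ 1 := by
    by_contra! hcon
    set Bz := Subgroup.zpowers S.b
    have hBU : Bz ≤ Subgroup.normalizer (U : Set L) := by
      rw [Subgroup.normalizer_eq_top]; exact le_top
    set K := Subgroup.centralizer {d : L | ∃ x ∈ U, ⁅x, S.b⁆ = d}
    have hKD : ∀ x ∈ U, ⁅x, S.b⁆ ∈ K := by
      rintro a ha _ ⟨d, hd, rfl⟩
      obtain ⟨e, he, hsplit⟩ : ∃ e ∈ Z, ⁅a * d, S.b⁆ = e * (⁅a, S.b⁆ * ⁅d, S.b⁆) := by
        refine ⟨⁅a, ⁅d, S.b⁆⁆ * ⁅⁅d, S.b⁆, ⁅a, S.b⁆⁆,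
          Z.mul_mem (hUcomm _ (hcomU d hd) a (hUP ha)) (hUcomm _ (hcomU a ha) _ (hUP (hcomU d hd))), ?_⟩
        simp only [commutatorElement_def]
        group
      have h1 := hcon _ (U.mul_mem ha hd)
      rw [hsplit, Commute.mul_pow (hcentral e he _).symm, S.sq_of_sign (hZsign e he), one_mul, sq] at h1
      have inv2 : ∀ y : L, y ^ 2 = 1 → y⁻¹ = y := fun y hy =>
        inv_eq_of_mul_eq_one_right (by rw [← sq, hy])
      have h3 := inv_eq_of_mul_eq_one_right h1
      rw [mul_inv_rev, inv2 _ (hcon a ha), inv2 _ (hcon d hd)] at h3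
      exact h3
    have hUK : U ≤ K := by
      have hcop : (Nat.card Bz).Coprime (Nat.card U) := by
        refine Nat.Coprime.coprime_dvd_right (Subgroup.card_dvd_of_le hUR) (S.copR.symm.coprime_dvd_left ?_)
        rw [Nat.card_zpowers]
        exact orderOf_dvd_of_pow_eq_one S.b3
      have hgen := CfsgLib.Coprime.commutator_sup_centralizer hBU hcop (Or.inr (hsolvR hUR))
      refine hgen.ge.trans (sup_le ?_ ?_)
      · rw [Subgroup.commutator_le]
        intro u hu w hw
        obtain ⟨i, rfl⟩ := mem_powers_iff_mem_zpowers.mpr hw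
        dsimp only
        clear hw
        induction i with
        | zero => rw [pow_zero, commutatorElement_one_right]; exact K.one_mem
        | succ i ih =>
          rw [pow_succ, show ⁅u, S.b ^ i * S.b⁆ = ⁅u, S.b ^ i⁆ * ⁅S.b ^ i * u * (S.b ^ i)⁻¹, S.b⁆ by
            rw [show S.b ^ i * S.b = S.b * S.b ^ i from ((Commute.self_pow S.b i).eq).symm]
            conv_lhs => rw [show S.b * S.b ^ i = S.b ^ i * S.b from (Commute.self_pow S.b i).eq]
            have hbb : S.b ^ i * S.b⁻¹ = S.b⁻¹ * S.b ^ i := (Commute.self_pow S.b i).inv_left.eq.symm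
            simp only [commutatorElement_def, mul_inv_rev]
            calc u * (S.b ^ i * S.b) * u⁻¹ * (S.b⁻¹ * (S.b ^ i)⁻¹)
                = u * (S.b ^ i) * u⁻¹ * (S.b ^ i)⁻¹ * (S.b ^ i * u * S.b * u⁻¹ * (S.b⁻¹ * (S.b ^ i)⁻¹)) := by
                  group
              _ = u * (S.b ^ i) * u⁻¹ * (S.b ^ i)⁻¹ *
                    (S.b ^ i * u * ((S.b ^ i)⁻¹ * S.b * S.b ^ i) * u⁻¹ * ((S.b ^ i)⁻¹ * S.b⁻¹)) := by
                  congr 1
                  rw [mul_assoc (S.b ^ i)⁻¹, (Commute.self_pow S.b i).eq, inv_mul_cancel_left,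
                    ← mul_inv_rev, ← (Commute.self_pow S.b i).eq, mul_inv_rev]
              _ = _ := by group]
          exact K.mul_mem ih (hKD _ (hUn.conj_mem u hu _))
      · rintro y ⟨hyU, hyb⟩ _ ⟨x, hx, rfl⟩
        have hyb' : S.b * y = y * S.b := hyb S.b (Subgroup.mem_zpowers S.b)
        have hcc := hcentral _ (hUcomm y hyU x (hUP hx)) S.b
        have hconj : ⁅S.b * x * S.b⁻¹, y⁆ = ⁅x, y⁆ := by
          have hb' : S.b * y * S.b⁻¹ = y := by rw [hyb', mul_inv_cancel_right]
          calc ⁅S.b * x * S.b⁻¹, y⁆ = ⁅S.b * x * S.b⁻¹, S.b * y * S.b⁻¹⁆ := by rw [hb']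
            _ = S.b * ⁅x, y⁆ * S.b⁻¹ := by simp only [commutatorElement_def]; group
            _ = ⁅x, y⁆ := by rw [hcc, mul_inv_cancel_right]
        have hxy : x * y * x⁻¹ = ⁅x, y⁆ * y := by rw [commutatorElement_def]; group
        have hx'y : (S.b * x * S.b⁻¹) * y * (S.b * x * S.b⁻¹)⁻¹ = ⁅x, y⁆ * y := by
          rw [← hconj, commutatorElement_def]; group
        set x' := S.b * x * S.b⁻¹ with hx'
        have e2 : x'⁻¹ * y * x' = x⁻¹ * y * x := by
          have hc1 := hcentral _ (hUcomm y hyU x (hUP hx))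
          have hA : ∀ w : L, w * y * w⁻¹ = ⁅x, y⁆ * y → w⁻¹ * y * w = ⁅x, y⁆⁻¹ * y := by
            intro w hw
            calc w⁻¹ * y * w = w⁻¹ * (⁅x, y⁆⁻¹ * (⁅x, y⁆ * y)) * w := by rw [inv_mul_cancel_left]
              _ = w⁻¹ * (⁅x, y⁆⁻¹ * (w * y * w⁻¹)) * w := by rw [hw]
              _ = (w⁻¹ * ⁅x, y⁆⁻¹ * w) * y := by group
              _ = ⁅x, y⁆⁻¹ * y := by
                rw [mul_assoc w⁻¹, show ⁅x, y⁆⁻¹ * w = w * ⁅x, y⁆⁻¹ from
                  (Commute.inv_left (hc1 w).symm).eq, inv_mul_cancel_left]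
          rw [hA x' hx'y, hA x hxy]
        have e3 : x * x'⁻¹ * y = y * (x * x'⁻¹) := by
          calc x * x'⁻¹ * y = x * (x'⁻¹ * y * x') * x'⁻¹ := by group
            _ = x * (x⁻¹ * y * x) * x'⁻¹ := by rw [e2]
            _ = y * (x * x'⁻¹) := by group
        have e4 : ⁅x, S.b⁆ = x * x'⁻¹ := by rw [hx', commutatorElement_def]; group
        rw [e4]; exact e3
    have hdZ : ∀ x ∈ U, ⁅x, S.b⁆ ∈ Z := fun x hx => hCU ⟨hUR (hcomU x hx), fun y hy =>
      (hUK hy _ ⟨x, hx, rfl⟩).symm⟩
    have hbC : S.b ∈ Subgroup.centralizer (U : Set L) := by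
      intro u hu
      rcases (hZmem _).mp (hdZ u hu) with h | h
      · exact commutatorElement_eq_one_iff_mul_comm.mp h
      · exfalso
        have e : u * S.b * u⁻¹ = z * S.b := by rw [← h, commutatorElement_def]; group
        have e3 := congrArg (fun w => w ^ 3) e
        simp only [conj_pow, S.b3, mul_one, mul_inv_cancel] at e3
        rw [Commute.mul_pow (hcentral z hz S.b).symm, S.b3, mul_one,
          pow_succ, S.sq_of_sign (hZsign z hz), one_mul] at e3
        exact hz1 e3.symm
    have hRC : S.R ≤ Subgroup.centralizer (U : Set L) := S.R_le_of_b_mem hbC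
    exact S.R_not_small hZsign fun r hr => hCU ⟨hr, hRC hr⟩
  -- at most four dimensions
  have hdim : finrank (ZMod 3) W ≤ 4 := by
    set c := ⁅x, S.b⁆ with hc
    have hcz : c ^ 2 = z := by
      have hmem : c ^ 2 ∈ Z := by
        have h := CfsgLib.Extraspecial.pow_mem_center hUext ⟨c, hcomU x hxU⟩
        exact hCU ⟨hUR (U.pow_mem (hcomU x hxU) 2), fun y hy =>
          congrArg Subtype.val (Subgroup.mem_center_iff.mp h ⟨y, hy⟩)⟩
      exact ((hZmem _).mp hmem).resolve_left hx2
    have hinj : LinearMap.ker (S.π c - 1) = ⊥ := by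
      refine LinearMap.ker_eq_bot'.mpr fun v hv => ?_
      have hv' : S.π c v = v := sub_eq_zero.mp hv
      have : S.π (c ^ 2) v = v := by rw [sq, apply_mul, hv', hv']
      rw [hcz, hzneg, LinearMap.neg_apply, Module.End.one_apply] at this
      exact eq_zero_of_self_eq_neg v this.symm
    set N := S.π S.b - 1 with hN
    have hle : LinearMap.range (S.π c - 1) ≤
        (LinearMap.range N).map (S.π x) ⊔ LinearMap.range N := by
      rintro _ ⟨v, rfl⟩
      set w := S.π S.b⁻¹ v with hw
      have e : (S.π c - 1) v = S.π x (N (S.π x⁻¹ w)) - N w := by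
        rw [sub_one_apply, hN, sub_one_apply, sub_one_apply, map_sub, apply_apply_inv,
          hc, commutatorElement_def, apply_mul, apply_mul, apply_mul, ← hw,
          show S.π S.b w = v from apply_apply_inv _ _ _]
        abel
      rw [e]
      exact sub_mem (Submodule.mem_sup_left (Submodule.mem_map_of_mem ⟨_, rfl⟩))
        (Submodule.mem_sup_right ⟨_, rfl⟩)
    have h1 := LinearMap.finrank_range_add_finrank_ker (S.π c - 1)
    rw [hinj, finrank_bot] at h1
    have h2 := Submodule.finrank_mono hle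
    have h3 := Submodule.finrank_add_le_finrank_add_finrank
      ((LinearMap.range N).map (S.π x)) (LinearMap.range N)
    have h4 := Submodule.finrank_map_le (S.π x) (LinearMap.range N)
    have h5 : finrank (ZMod 3) (LinearMap.range N) ≤ 2 := S.rank
    omega
  -- the order of `U`
  have hUidx : (Subgroup.center U).index ≤ 16 := by
    refine le_trans (CfsgLib.Extraspecial.index_center_le_finrank_sq (S.π.comp U.subtype) ?_ ?_
      (CfsgLib.Extraspecial.comm_mem hUext) ?_) ?_
    · intro c hc
      have hcZ : (c : L) ∈ Z := hCU ⟨hUR c.2, fun y hy =>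
        congrArg Subtype.val (Subgroup.mem_center_iff.mp hc ⟨y, hy⟩)⟩
      rcases hZsign _ hcZ with h | h
      · exact ⟨1, by rw [one_smul]; exact h⟩
      · exact ⟨-1, by rw [neg_one_smul]; exact h⟩
    · exact fun c _ h => Subtype.ext (S.faithful (h.trans (map_one S.π).symm))
    · obtain ⟨k, hk⟩ := IsPGroup.iff_card.mp (hPp.to_le hUP)
      rw [hk, Nat.cast_pow]
      exact pow_ne_zero _ (by decide)
    · exact (Nat.pow_le_pow_left hdim 2).trans (by norm_num)
  obtain ⟨m, hm1, hUcard⟩ := CfsgLib.Extraspecial.card_eq _ U hUext rfl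
  have hidx : (Subgroup.center U).index = 2 ^ (2 * m) := by
    have h := Subgroup.card_mul_index (Subgroup.center U)
    rw [hUext.2, hUcard, pow_add, pow_one] at h
    exact Nat.eq_of_mul_eq_mul_left (by norm_num) h
  have hm2 : m ≤ 2 := by
    rw [hidx] at hUidx
    by_contra hh
    have : 2 ^ 6 ≤ 2 ^ (2 * m) := Nat.pow_le_pow_right (by norm_num) (by omega)
    omega
  -- the action on `U` modulo `Z`
  set ZU := Z.subgroupOf U with hZU'
  have hVcard : Nat.card (↥U ⧸ ZU) = 2 ^ (2 * m) := by
    rw [← Subgroup.index_eq_card, ← hidx]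
    congr 1
    ext y
    rw [hZU', Subgroup.mem_subgroupOf, Subgroup.mem_center_iff]
    exact ⟨fun h w => Subtype.ext (hcentral _ h w),
      fun h => hCU ⟨hUR y.2, fun w hw => congrArg Subtype.val (h ⟨w, hw⟩)⟩⟩
  have hprime : ∀ r ∈ S.R, r ∉ U → ∀ q : ℕ, q.Prime → r ^ q ∈ U →
      q = 2 ∨ (q = 5 ∧ m = 2 ∧ ∀ u ∈ U, ⁅r, u⁆ ∈ Z → u ∈ Z) := by
    intro r hr hrU q hq hrq
    haveI := Fact.mk hq
    have hq3 : q ≠ 3 := by
      rintro rfl
      apply hrU
      obtain ⟨e, he⟩ := exists_pow_eq_self_of_coprime (x := (r : L ⧸ U)) (n := 3) (by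
        refine (S.copR.symm).coprime_dvd_right ?_
        refine dvd_trans (orderOf_map_dvd (QuotientGroup.mk' U) r) ?_
        rw [← Subgroup.orderOf_mk r hr]
        exact orderOf_dvd_natCard _)
      rw [← QuotientGroup.mk_pow U r 3, (QuotientGroup.eq_one_iff _).mpr hrq, one_pow] at he
      exact (QuotientGroup.eq_one_iff r).mp he.symm
    let ψ : ↥U →* ↥U ⧸ ZU :=
      (QuotientGroup.mk' ZU).comp ((MulAut.conjNormal r : MulAut ↥U) : ↥U ≃* ↥U).toMonoidHom
    have hψapp : ∀ u : U, ψ u = QuotientGroup.mk' ZU ⟨r * u * r⁻¹, hUn.conj_mem _ u.2 r⟩ :=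
      fun u => congrArg (QuotientGroup.mk' ZU) (Subtype.ext (MulAut.conjNormal_apply r u))
    have hψ : ZU ≤ ψ.ker := by
      intro u hu
      rw [Subgroup.mem_subgroupOf] at hu
      rw [MonoidHom.mem_ker, hψapp]
      refine (QuotientGroup.eq_one_iff _).mpr ?_
      rw [hZU', Subgroup.mem_subgroupOf]
      show r * u * r⁻¹ ∈ Z
      rwa [hcentral _ hu, mul_inv_cancel_right]
    let f : ↥U ⧸ ZU →* ↥U ⧸ ZU := QuotientGroup.lift ZU ψ hψ
    have hf : ∀ u : U, f (QuotientGroup.mk' ZU u) =
        QuotientGroup.mk' ZU ⟨r * u * r⁻¹, hUn.conj_mem _ u.2 r⟩ :=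
      fun u => (QuotientGroup.lift_mk' ZU hψ u).trans (hψapp u)
    have hiter : ∀ (i : ℕ) (u : U), (f^[i]) (QuotientGroup.mk' ZU u) =
        QuotientGroup.mk' ZU ⟨r ^ i * u * (r ^ i)⁻¹, hUn.conj_mem _ u.2 _⟩ := by
      intro i
      induction i with
      | zero => intro u; simp
      | succ i ih =>
        intro u
        rw [Function.iterate_succ_apply', ih, hf]
        congr 1
        apply Subtype.ext
        show r * (r ^ i * u * (r ^ i)⁻¹) * r⁻¹ = r ^ (i + 1) * u * (r ^ (i + 1))⁻¹
        rw [pow_succ']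
        group
    have hperiod : ∀ v, (f^[q]) v = v := by
      intro v
      obtain ⟨u, rfl⟩ := QuotientGroup.mk'_surjective ZU v
      rw [hiter]
      refine (QuotientGroup.eq_iff_div_mem).mpr ?_
      rw [hZU', Subgroup.mem_subgroupOf]
      simp only [div_eq_mul_inv, Subgroup.coe_mul, Subgroup.coe_inv]
      exact hUcomm u u.2 _ (hUP hrq)
    have hfbij : Function.Bijective f := by
      have hid : (f^[q - 1]) ∘ f = id := by
        funext v
        rw [Function.comp_apply, ← Function.iterate_succ_apply, Nat.succ_eq_add_one,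
          Nat.sub_add_cancel hq.one_lt.le, hperiod, id]
      exact (Function.Injective.bijective_of_finite
        (Function.Injective.of_comp (hid ▸ Function.injective_id)))
    let σ : Equiv.Perm (↥U ⧸ ZU) := Equiv.ofBijective f hfbij
    have hσq : σ ^ q ^ 1 = 1 := Equiv.ext fun v => by
      rw [pow_one, Equiv.Perm.coe_pow]
      exact hperiod v
    haveI := Fintype.ofFinite (↥U ⧸ ZU)
    have hmod := Equiv.Perm.card_compl_support_modEq hσq
    let F : Subgroup (↥U ⧸ ZU) := MonoidHom.eqLocus f (MonoidHom.id _)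
    have hFcard : σ.supportᶜ.card = Nat.card F := by
      rw [Nat.card_eq_fintype_card]
      refine (Fintype.card_of_subtype _ fun v => ?_).symm
      rw [Finset.mem_compl, Equiv.Perm.mem_support, not_not]
      rfl
    rw [hFcard, ← Nat.card_eq_fintype_card, hVcard] at hmod
    obtain ⟨j, hj, hjc⟩ : ∃ j, j ≤ 2 * m ∧ Nat.card F = 2 ^ j :=
      (Nat.dvd_prime_pow Nat.prime_two).mp (hVcard ▸ Subgroup.card_subgroup_dvd_card F)
    have hFmem : ∀ u : U, QuotientGroup.mk' ZU u ∈ F ↔ ⁅r, (u : L)⁆ ∈ Z := by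
      intro u
      show f _ = _ ↔ _
      rw [hf, MonoidHom.id_apply]
      refine QuotientGroup.eq_iff_div_mem.trans ?_
      rw [hZU', Subgroup.mem_subgroupOf]
      simp only [div_eq_mul_inv, Subgroup.coe_mul, Subgroup.coe_inv]
      exact Iff.rfl
    have hjlt : j ≠ 2 * m := by
      intro h
      apply hrU
      refine hker r hr fun u hu => ?_
      have htop : F = ⊤ := Subgroup.eq_top_of_card_eq F (by rw [hjc, h, hVcard])
      exact (hFmem ⟨u, hu⟩).mp (htop ▸ Subgroup.mem_top _)
    rw [hjc] at hmod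
    have hdvd : q ∣ 2 ^ (2 * m) - 2 ^ j :=
      (Nat.modEq_iff_dvd' (Nat.pow_le_pow_right (by norm_num) hj)).mp hmod
    have hfix0 : j = 0 → ∀ u ∈ U, ⁅r, u⁆ ∈ Z → u ∈ Z := by
      intro h u hu hru
      have hm := (hFmem ⟨u, hu⟩).mpr hru
      rw [h, pow_zero] at hjc
      rw [Subgroup.eq_bot_of_card_eq F hjc, Subgroup.mem_bot] at hm
      have := (QuotientGroup.eq_one_iff _).mp hm
      rwa [hZU', Subgroup.mem_subgroupOf] at this
    have hsmallp : ∀ n : ℕ, 0 < n → n ≤ 15 → q ∣ n → q = 2 ∨ q = 5 ∧ 5 ∣ n ∨ q = 7 ∧ 7 ∣ n ∨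
        q = 11 ∧ 11 ∣ n ∨ q = 13 ∧ 13 ∣ n := by
      intro n hn0 hn hd
      have hq15 : q ≤ 15 := (Nat.le_of_dvd hn0 hd).trans hn
      interval_cases q <;> first | omega | norm_num at hq
    have hm12 : m = 1 ∨ m = 2 := by omega
    rcases hm12 with rfl | rfl
    · interval_cases j
      all_goals first
        | exact absurd rfl hjlt
        | (rcases hsmallp _ (by norm_num) (by norm_num) hdvd with h | h | h | h | h <;>
            first | exact Or.inl h | norm_num at h | omega)
    · by_cases hj1 : j = 1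
      · subst hj1
        rcases hsmallp _ (by norm_num) (by norm_num) hdvd with h | h | h | h | h
        · exact Or.inl h
        · norm_num at h
        · -- an element of order seven
          exfalso
          obtain ⟨rfl, -⟩ := h
          obtain ⟨⟨w, hw⟩, hw1⟩ : ∃ w : F, w ≠ 1 := by
            haveI : Nontrivial F := Finite.one_lt_card_iff_nontrivial.mp (by rw [hjc]; norm_num)
            exact exists_ne 1
          obtain ⟨v0, rfl⟩ := QuotientGroup.mk'_surjective ZU w
          have hv0 : (v0 : L) ∉ Z := fun h => hw1 (Subtype.ext ((QuotientGroup.eq_one_iff v0).mpr h))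
          obtain ⟨u, hu⟩ : ∃ u : U, ⁅(v0 : L), (u : L)⁆ ≠ 1 := by
            by_contra! hc
            exact hv0 (hCU ⟨hUR v0.2, fun y hy =>
              (commutatorElement_eq_one_iff_mul_comm.mp (hc ⟨y, hy⟩)).symm⟩)
          have huz : ⁅(v0 : L), (u : L)⁆ = z :=
            ((hZmem _).mp (hUcomm u u.2 _ (hUP v0.2))).resolve_left hu
          -- the commutator with `v0` as a character
          let γ : U →* L :=
            { toFun := fun y => ⁅(v0 : L), (y : L)⁆
              map_one' := commutatorElement_one_right _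
              map_mul' := fun y y' => by
                have hc := hcentral _ (hUcomm y' y'.2 _ (hUP v0.2)) (y : L)
                rw [Subgroup.coe_mul, show ⁅(v0 : L), (y : L) * y'⁆ =
                    ⁅(v0 : L), (y : L)⁆ * ((y : L) * ⁅(v0 : L), (y' : L)⁆ * (y : L)⁻¹) by
                  simp only [commutatorElement_def]; group, hc, mul_inv_cancel_right] }
          let cr : MulAut U := MulAut.conjNormal r
          have hγ : ∀ y : U, γ (cr y) = γ y := by
            intro y
            show ⁅(v0 : L), ((cr y : U) : L)⁆ = ⁅(v0 : L), (y : L)⁆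
            rw [MulAut.conjNormal_apply]
            have he := (hFmem v0).mp hw
            set e := ⁅r, (v0 : L)⁆ with hedef
            have h1 : r * (v0 : L) * r⁻¹ = e * (v0 : L) := by
              rw [hedef, commutatorElement_def]; group
            have h2 : ⁅e * (v0 : L), r * (y : L) * r⁻¹⁆ = ⁅(v0 : L), r * (y : L) * r⁻¹⁆ := by
              have hc := hcentral e he
              simp only [commutatorElement_def, mul_inv_rev (a := e)]
              calc e * ↑v0 * (r * ↑y * r⁻¹) * ((↑v0)⁻¹ * e⁻¹) * (r * ↑y * r⁻¹)⁻¹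
                  = e * (↑v0 * (r * ↑y * r⁻¹) * (↑v0)⁻¹) * e⁻¹ * (r * ↑y * r⁻¹)⁻¹ := by group
                _ = _ := by rw [← hc (↑v0 * (r * ↑y * r⁻¹) * (↑v0)⁻¹), mul_inv_cancel_right]
            rw [← h2, ← h1, show ⁅r * (v0 : L) * r⁻¹, r * (y : L) * r⁻¹⁆ =
              r * ⁅(v0 : L), (y : L)⁆ * r⁻¹ by simp only [commutatorElement_def]; group,
              hcentral _ (hUcomm y y.2 _ (hUP v0.2)) r, mul_inv_cancel_right]
          have hγit : ∀ (i : ℕ) (y : U), γ ((⇑cr)^[i] y) = γ y := by
            intro i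
            induction i with
            | zero => intro y; rfl
            | succ i ih => intro y; rw [Function.iterate_succ_apply', hγ, ih]
          let it : ℕ → U := fun i => (⇑cr)^[i] u
          set s : U := ((List.range 7).map it).prod with hs'
          have hγs : γ s = z := by
            rw [hs', map_list_prod, List.map_map]
            rw [show List.map (⇑γ ∘ it) (List.range 7) = List.replicate 7 z from
              List.eq_replicate_iff.mpr ⟨by simp, fun w hw => by
                obtain ⟨i, -, rfl⟩ := List.mem_map.mp hw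
                exact (hγit i u).trans huz⟩, List.prod_replicate,
              pow_eq_pow_mod 7 (S.sq_of_sign (hZsign z hz))]
            exact pow_one z
          letI : CommGroup (↥U ⧸ ZU) :=
            { (inferInstance : Group (↥U ⧸ ZU)) with
              mul_comm := fun a c => by
                obtain ⟨a, rfl⟩ := QuotientGroup.mk_surjective a
                obtain ⟨c, rfl⟩ := QuotientGroup.mk_surjective c
                rw [← commutatorElement_eq_one_iff_mul_comm]
                refine (QuotientGroup.eq_one_iff ⁅a, c⁆).mpr ?_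
                rw [hZU', Subgroup.mem_subgroupOf]
                exact hUcomm c c.2 a (hUP a.2) }
          have hfit : ∀ i, f (QuotientGroup.mk' ZU (it i)) = QuotientGroup.mk' ZU (it (i + 1)) := by
            intro i
            rw [hf]
            congr 1
            apply Subtype.ext
            show r * _ * r⁻¹ = _
            simp only [it, Function.iterate_succ_apply', cr, MulAut.conjNormal_apply]
          have h70 : QuotientGroup.mk' ZU (it 7) = QuotientGroup.mk' ZU (it 0) := by
            have h := hperiod (QuotientGroup.mk' ZU (it 0))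
            have hi : ∀ i, (f^[i]) (QuotientGroup.mk' ZU (it 0)) = QuotientGroup.mk' ZU (it i) := by
              intro i
              induction i with
              | zero => rfl
              | succ i ih => rw [Function.iterate_succ_apply', ih, hfit]
            rwa [hi] at h
          have hsF : QuotientGroup.mk' ZU s ∈ F := by
            show f _ = _
            have key : ∀ (g : ℕ → ↥U ⧸ ZU), g 7 = g 0 →
                g 1 * g 2 * g 3 * g 4 * g 5 * g 6 * g 7 = g 0 * g 1 * g 2 * g 3 * g 4 * g 5 * g 6 := by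
              intro g hg
              rw [hg]
              ac_rfl
            have e : ∀ g : ℕ → ↥U ⧸ ZU, ((List.range 7).map g).prod =
                g 0 * g 1 * g 2 * g 3 * g 4 * g 5 * g 6 := by
              intro g
              simp [List.range_succ, mul_assoc]
            rw [hs', map_list_prod, List.map_map, map_list_prod, List.map_map, e, e, MonoidHom.id_apply]
            simp only [Function.comp_apply, hfit]
            exact key (fun i => QuotientGroup.mk' ZU (it i)) h70
          obtain ⟨a, c, -, hFu⟩ := Nat.card_eq_two_iff.mp (show Nat.card F = 2 by rw [hjc]; norm_num)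
          have hsub : ∀ w : F, (w : ↥U ⧸ ZU) = 1 ∨ (w : ↥U ⧸ ZU) = QuotientGroup.mk' ZU v0 := by
            intro w
            have hw' : ∀ k : F, k = a ∨ k = c := fun k => by
              have := hFu ▸ Set.mem_univ k
              simpa using this
            rcases hw' w, hw' 1, hw' ⟨_, hw⟩ with ⟨(rfl | rfl), (h1 | h1), (h2 | h2)⟩ <;>
              first
              | exact Or.inl (congrArg Subtype.val h1.symm)
              | exact Or.inr (congrArg Subtype.val h2.symm)
              | exact absurd (h2.trans h1.symm) hw1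
          have : γ s = 1 := by
            have hker1 : ∀ y : U, (y : L) ∈ Z → γ y = 1 := fun y hy =>
              commutatorElement_eq_one_iff_mul_comm.mpr (hcentral _ hy v0)
            rcases hsub ⟨_, hsF⟩ with h | h
            · exact hker1 s (by
                have := (QuotientGroup.eq_one_iff s).mp h
                rwa [hZU', Subgroup.mem_subgroupOf] at this)
            · have h' := QuotientGroup.eq_iff_div_mem.mp h
              rw [hZU', Subgroup.mem_subgroupOf] at h'
              have h'' := hker1 _ h'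
              rw [map_div, div_eq_one] at h''
              exact h''.trans (commutatorElement_self _)
          exact hz1 (hγs.symm.trans this)
        · norm_num at h
        · norm_num at h
      · have hj' : j = 0 ∨ j = 2 ∨ j = 3 := by omega
        rcases hj' with rfl | rfl | rfl <;>
          rcases hsmallp _ (by norm_num) (by norm_num) hdvd with h | h | h | h | h <;>
          first
          | exact Or.inl h
          | exact Or.inr ⟨h.1, rfl, hfix0 rfl⟩
          | norm_num at h
  -- `R = U`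
  have hPU : (P : Subgroup L) ≤ U := fun p hp => hker p (hPR hp) fun u hu => hUcomm u hu p hp
  have hRU : S.R ≤ U := by
    by_contra hne
    set mk := QuotientGroup.mk' U with hmk
    set Rb := S.R.map mk with hRb
    haveI hRbn : Rb.Normal := (inferInstance : S.R.Normal).map _ (QuotientGroup.mk'_surjective U)
    have hRbs : Group.IsSolvable Rb :=
      solvable_of_surjective (f := mk.subgroupMap S.R) (mk.subgroupMap_surjective S.R)
    have hRbne : ¬ Rb ≤ ⊥ := fun h => hne fun r hr => (QuotientGroup.eq_one_iff r).mp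
      (Subgroup.mem_bot.mp (h (Subgroup.mem_map_of_mem mk hr)))
    have hlift : ∀ n ∈ Rb, ∃ r ∈ S.R, mk r = n := fun n hn => Subgroup.mem_map.mp hn
    have h5 : ∀ N : Subgroup (L ⧸ U), N.Normal → N ≤ Rb → Group.IsNilpotent N → N ≠ ⊥ →
        Nat.card N = 5 := by
      intro N hNn hNR hNnil hN1
      haveI := hNn
      have hprimes : ∀ q : ℕ, q.Prime → q ∣ Nat.card N → q = 5 ∧ m = 2 ∧
          ∀ r ∈ S.R, r ∉ U → r ^ 5 ∈ U → ∀ u ∈ U, ⁅r, u⁆ ∈ Z → u ∈ Z := by
        intro q hq hdvd
        haveI := Fact.mk hq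
        obtain ⟨⟨n, hn⟩, ho⟩ := exists_prime_orderOf_dvd_card' q hdvd
        rw [Subgroup.orderOf_mk] at ho
        have hq2 : q ≠ 2 := by
          rintro rfl
          obtain ⟨Q2, hQn, hQN, hQp, hQc⟩ := exists_normal_part N hNnil 2
          haveI := hQn
          have hpre : IsPGroup 2 (Q2.comap mk) := hQp.comap_of_ker_isPGroup mk
            (by rw [hmk, QuotientGroup.ker_mk']; exact hPp.to_le hUP)
          have hle := (CfsgLib.Fitting.le_pCore inferInstance hpre).trans hPU
          have hbot : Q2 = ⊥ := by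
            refine (Subgroup.eq_bot_iff_forall _).mpr fun y hy => ?_
            obtain ⟨g, rfl⟩ := QuotientGroup.mk'_surjective U y
            exact (QuotientGroup.eq_one_iff g).mpr (hle hy)
          rw [hbot, Subgroup.card_bot] at hQc
          have h1 := (hq.pow_dvd_iff_le_factorization (k := 1) Nat.card_pos.ne').mp (by rwa [pow_one])
          exact absurd hQc.symm (Nat.one_lt_pow (by omega) hq.one_lt).ne'
        obtain ⟨r, hr, rfl⟩ := hlift n (hNR hn)
        have hrU : r ∉ U := fun h => hq.one_lt.ne' (by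
          rw [← ho, show mk r = 1 from (QuotientGroup.eq_one_iff r).mpr h, orderOf_one])
        have hrq : r ^ q ∈ U := by
          rw [← QuotientGroup.eq_one_iff, ← QuotientGroup.mk'_apply, map_pow, ← ho, pow_orderOf_eq_one]
        rcases hprime r hr hrU q hq hrq with h | ⟨h, hm, -⟩
        · exact absurd h hq2
        · refine ⟨h, hm, fun r' hr' hrU' h5' => ?_⟩
          rcases hprime r' hr' hrU' 5 (by norm_num) h5' with h' | ⟨-, -, h'⟩
          · norm_num at h'
          · exact h'
      haveI : Nontrivial N := (Subgroup.nontrivial_iff_ne_bot N).mpr hN1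
      obtain ⟨q0, hq0, hq0d⟩ := Nat.exists_prime_and_dvd (Finite.one_lt_card (α := N)).ne'
      obtain ⟨-, hm, hfree⟩ := hprimes q0 hq0 hq0d
      set k := (Nat.card N).primeFactorsList.length
      have hk : Nat.card N = 5 ^ k :=
        Nat.eq_prime_pow_of_unique_prime_dvd Nat.card_pos.ne' fun {d} hd hdv => (hprimes d hd hdv).1
      obtain ⟨v1, hv1U, hv1⟩ : ∃ v ∈ U, v ∉ Z := by
        by_contra! hall
        have hab : ∀ a b : U, ⁅a, b⁆ = 1 := fun a c => commutatorElement_eq_one_iff_mul_comm.mpr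
          (Subtype.ext (hcentral _ (hall c c.2) a))
        obtain ⟨g, hg⟩ := CfsgLib.Extraspecial.exists_not_central hUext
        exact hg (Subgroup.mem_center_iff.mpr fun y => commutatorElement_eq_one_iff_mul_comm.mp (hab y g))
      choose lift hlR hlmk using fun n : N => hlift n (hNR n.2)
      let ι : N → {v : ↥U ⧸ ZU // v ≠ 1} := fun n =>
        ⟨QuotientGroup.mk' ZU ⟨lift n * v1 * (lift n)⁻¹, hUn.conj_mem _ hv1U _⟩, fun h => hv1 (by
          have h' := (QuotientGroup.eq_one_iff _).mp h
          rw [hZU', Subgroup.mem_subgroupOf] at h'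
          have h'' := hZn.conj_mem _ h' (lift n)⁻¹
          simpa [mul_assoc] using h'')⟩
      have hι : Function.Injective ι := by
        intro n n' h
        by_contra hnn
        have h1 := QuotientGroup.eq.mp (congrArg Subtype.val h)
        rw [hZU', Subgroup.mem_subgroupOf] at h1
        simp only [Subgroup.coe_mul, Subgroup.coe_inv] at h1
        set g := (lift n)⁻¹ * lift n' with hg
        have hgv : ⁅g, v1⁆ ∈ Z := by
          have h2 := hZn.conj_mem _ (hZn.conj_mem _ h1 (lift n)⁻¹) v1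
          convert h2 using 1
          rw [hg, commutatorElement_def]
          group
        have hgR : g ∈ S.R := S.R.mul_mem (S.R.inv_mem (hlR n)) (hlR n')
        have hgN : mk g = (↑(n⁻¹ * n') : L ⧸ U) := by
          rw [hg, map_mul, map_inv, hlmk, hlmk, Subgroup.coe_mul, Subgroup.coe_inv]
        obtain ⟨e, -, he⟩ := (Nat.dvd_prime_pow (by norm_num : Nat.Prime 5)).mp
          (hk ▸ orderOf_dvd_natCard (n⁻¹ * n'))
        rcases Nat.eq_zero_or_pos e with rfl | he0
        · exact hnn (inv_mul_eq_one.mp (orderOf_eq_one_iff.mp (by rw [he, pow_zero])))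
        · obtain ⟨e', rfl⟩ : ∃ e', e = e' + 1 := ⟨e - 1, by omega⟩
          set h' := g ^ 5 ^ e' with hh'
          have hord : orderOf (mk g) = 5 ^ (e' + 1) := by rw [hgN, Subgroup.orderOf_coe, he]
          have hh'U : h' ∉ U := by
            rw [← QuotientGroup.eq_one_iff, hh', ← QuotientGroup.mk'_apply, map_pow,
              ← orderOf_dvd_iff_pow_eq_one, hord]
            exact fun h => absurd (Nat.le_of_dvd (by positivity) h)
              (by rw [pow_succ]; have := pow_pos (show 0 < 5 by norm_num) e'; omega)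
          have hh'5 : h' ^ 5 ∈ U := by
            rw [← QuotientGroup.eq_one_iff, hh', ← pow_mul, ← QuotientGroup.mk'_apply, map_pow,
              ← pow_succ, ← hord, pow_orderOf_eq_one]
          have hpow : ∀ i, ⁅g ^ i, v1⁆ ∈ Z := by
            intro i
            induction i with
            | zero => rw [pow_zero, commutatorElement_one_left]; exact Z.one_mem
            | succ i ih =>
              rw [pow_succ', show ⁅g * g ^ i, v1⁆ = g * ⁅g ^ i, v1⁆ * g⁻¹ * ⁅g, v1⁆ by
                simp only [commutatorElement_def]; group]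
              exact Z.mul_mem (hZn.conj_mem _ ih g) hgv
          exact hv1 (hfree h' (S.R.pow_mem hgR _) hh'U hh'5 v1 hv1U (hpow _))
      have hle := Nat.card_le_card_of_injective ι hι
      have hV : Nat.card {v : ↥U ⧸ ZU // v ≠ 1} ≤ 15 := by
        haveI := Fintype.ofFinite (↥U ⧸ ZU)
        rw [Nat.card_eq_fintype_card, Fintype.card_subtype_compl, Fintype.card_subtype_eq,
          ← Nat.card_eq_fintype_card, hVcard, hm]
        norm_num
      have hone : 1 < Nat.card N := Finite.one_lt_card
      have hk1 : k = 1 := by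
        rcases Nat.lt_or_ge k 2 with h | h
        · interval_cases k
          · rw [hk, pow_zero] at hone; omega
          · rfl
        · have : 5 ^ 2 ≤ 5 ^ k := Nat.pow_le_pow_right (by norm_num) h
          omega
      rw [hk, hk1, pow_one]
    obtain ⟨N, hNn, hNR, hN1, hNnil⟩ := exists_nilpotent Rb (⊥ : Subgroup (L ⧸ U)) hRbs
      (fun x _ y hy => by rw [Subgroup.mem_bot.mp hy, mul_one, one_mul]) hRbne
    haveI := hNn
    have hN5 := h5 N hNn hNR hNnil (fun h => hN1 (h ▸ le_rfl))
    haveI : Fact (Nat.Prime 5) := ⟨by norm_num⟩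
    haveI : IsCyclic N := isCyclic_of_prime_card hN5
    let e := IsCyclic.mulAutMulEquiv N
    let φ : L ⧸ U →* (ZMod (Nat.card N))ˣ := e.toMonoidHom.comp (MulAut.conjNormal (H := N))
    have hφker : ∀ g, φ g = 1 → ∀ n ∈ N, g * n = n * g := by
      intro g hg n hn
      have h1 : (MulAut.conjNormal g : MulAut N) = 1 := e.injective (hg.trans (map_one _).symm)
      have h2 : ((MulAut.conjNormal g ⟨n, hn⟩ : N) : L ⧸ U) = n := by rw [h1]; rfl
      rw [MulAut.conjNormal_apply] at h2
      exact mul_inv_eq_iff_eq_mul.mp h2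
    have hRφ : S.R ≤ (φ.comp mk).ker := by
      rw [S.commR, Subgroup.commutator_le]
      intro g _ h _
      rw [MonoidHom.mem_ker, map_commutatorElement, commutatorElement_eq_one_iff_mul_comm]
      exact mul_comm _ _
    have hcen : ∀ x ∈ Rb, ∀ y ∈ N, x * y = y * x := by
      intro x hx y hy
      obtain ⟨r, hr, rfl⟩ := hlift x hx
      exact hφker _ (MonoidHom.mem_ker.mp (hRφ hr)) y hy
    have hRN : Rb ≤ N := by
      by_contra hh
      obtain ⟨N2, hN2n, hN2R, hN2, hN2nil⟩ := exists_nilpotent Rb N hRbs hcen hh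
      haveI := hN2n
      have hsupn : Group.IsNilpotent ↥(N ⊔ N2) :=
        CfsgLib.Fitting.isNilpotent_sup_of_normal hNn hN2n hNnil hN2nil
      have hsup5 := h5 (N ⊔ N2) inferInstance (sup_le hNR hN2R) hsupn
        (fun h => hN1 (le_of_le_of_eq le_sup_left h))
      have heq : N = N ⊔ N2 := Subgroup.eq_of_le_of_card_ge le_sup_left (by rw [hsup5, hN5])
      exact hN2 (heq ▸ le_sup_right)
    -- `b` centralizes the group of order five
    have hφb : φ (mk S.b) = 1 := by
      have h3 : φ (mk S.b) ^ 3 = 1 := by rw [← map_pow, ← map_pow, S.b3, map_one, map_one]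
      have h4 : φ (mk S.b) ^ 4 = 1 := by
        have := ZMod.pow_totient (φ (mk S.b))
        rwa [show (Nat.card N).totient = 4 by rw [hN5, Nat.totient_prime (by norm_num)]] at this
      rwa [pow_succ, h3, one_mul] at h4
    apply hne
    rw [S.commR, Subgroup.commutator_le]
    intro r hr w hw
    rw [← QuotientGroup.eq_one_iff, ← QuotientGroup.mk'_apply, map_commutatorElement,
      commutatorElement_eq_one_iff_mul_comm]
    refine (hφker _ ?_ _ (hRN (Subgroup.mem_map_of_mem mk hr))).symm
    obtain ⟨i, rfl⟩ := mem_powers_iff_mem_zpowers.mpr hw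
    rw [← hmk, map_pow, map_pow, hφb, one_pow]
  have hReq : S.R = U := le_antisymm hRU hUR
  -- the elementary subgroup of order eight
  have hzQ : z ∉ S.Q := fun h => hz1 (S.Qfix z h (by rw [hcentral z hz, mul_inv_cancel_right]))
  have hQZ : S.Q ⊓ Z = ⊥ := by
    refine (Subgroup.eq_bot_iff_forall _).mpr fun y hy => ?_
    rcases (hZmem y).mp hy.2 with h | h
    · exact h
    · exact absurd (h ▸ hy.1) hzQ
  have hZcard : Nat.card Z = 2 := by
    rw [Nat.card_eq_two_iff]
    refine ⟨⟨1, Z.one_mem⟩, ⟨z, hz⟩, fun h => hz1 (congrArg Subtype.val h).symm,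
      Set.eq_univ_iff_forall.mpr fun y => ?_⟩
    rcases (hZmem y).mp y.2 with h | h
    · exact Or.inl (Subtype.ext h)
    · exact Or.inr (Subtype.ext h)
  set A := S.Q ⊔ Z with hA
  have hAcard : Nat.card A = 8 := by
    have h := CfsgLib.Coprime.card_sup_mul_card_inf (K := S.Q) (S := Z)
      (fun y hy => Subgroup.centralizer_le_normalizer _ fun q _ => hcentral y hy q)
    rw [hQZ, Subgroup.card_bot, mul_one, S.Qcard, hZcard] at h
    exact h
  have hAU : A ≤ S.R := sup_le S.hQR (inf_le_left.trans hPR)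
  have hAel : ∀ y ∈ A, ∃ q ∈ S.Q, ∃ w ∈ Z, y = q * w := fun y hy => by
    obtain ⟨q, hq, w, hw, rfl⟩ := (Subgroup.mem_sup_of_normal_right (s := S.Q) (t := Z)).mp hy
    exact ⟨q, hq, w, hw, rfl⟩
  have hAcomm : ∀ y ∈ A, ∀ y' ∈ A, y * y' = y' * y := by
    intro y hy y' hy'
    obtain ⟨q, hq, w, hw, rfl⟩ := hAel y hy
    obtain ⟨q', hq', w', hw', rfl⟩ := hAel y' hy'
    calc q * w * (q' * w') = q * (w * q') * w' := by simp only [mul_assoc]
      _ = q * q' * (w * w') := by rw [← hcentral w hw q']; simp only [mul_assoc]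
      _ = q' * q * (w' * w) := by rw [S.Qcomm q hq q' hq', hZcomm w hw w' hw']
      _ = q' * (q * w') * w := by simp only [mul_assoc]
      _ = q' * w' * (q * w) := by rw [hcentral w' hw' q]; simp only [mul_assoc]
  right
  have hext : Cfsg.IsExtraspecial 2 S.R := hReq ▸ hUext
  have hcardR : Nat.card S.R = 2 ^ (1 + 2 * m) := by rw [hReq, hUcard]
  have hm : m = 2 := by
    rcases (show m = 1 ∨ m = 2 by omega) with rfl | rfl
    · exfalso
      have heq : A = S.R := Subgroup.eq_of_le_of_card_ge hAU (by rw [hAcard, hcardR]; norm_num)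
      obtain ⟨g, hg⟩ := CfsgLib.Extraspecial.exists_not_central hext
      exact hg (Subgroup.mem_center_iff.mpr fun y =>
        Subtype.ext (hAcomm y (heq.ge y.2) g (heq.ge g.2)))
    · rfl
  subst hm
  refine ⟨hext, by rw [hcardR]; norm_num, A, hAU, hAcomm, fun y hy => ?_, hAcard⟩
  obtain ⟨q, hq, w, hw, rfl⟩ := hAel y hy
  rw [Commute.mul_pow (hcentral w hw q), S.Qexp q hq, S.sq_of_sign (hZsign w hw), one_mul]

theorem concl : S.Concl := by
  by_cases h : S.Monomial
  · exact S.concl_of_monomial h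
  · exact S.concl_of_signs fun M hM hMR hc =>
      haveI := hM
      (S.scalar_or_monomial hMR hc).resolve_right h

end Setting

end CfsgLib.CubicBlock
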