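import Cfsg.Agent.Lib.CubicBlock.Basic

/-!
The three weights of the four-group use up the rank of `b - 1`.
-/

set_option autoImplicit false
set_option linter.unusedSectionVars false
set_option linter.style.haveILetI false

namespace CfsgLib.CubicBlock

open Module
open scoped commutatorElement

variable {L : Type*} [Group L] {W : Type*} [AddCommGroup W] [Module (ZMod 3) W]
variable (π : Representation (ZMod 3) L W)

/-- Four commuting signs, the weight `(1, -1)`. -/
def wproj (a a' : L) : W →ₗ[ZMod 3] W := 1 + π a - π a' - π a' * π a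

theorem wproj_apply (a a' : L) (w : W) :
    wproj π a a' w = w + π a w - π a' w - π a' (π a w) := rfl

theorem wproj_fixed {a a' : L} {w : W} (h : π a w = w) (h' : π a' w = w) :
    wproj π a a' w = 0 := by
  rw [wproj_apply, h, h']; abel

variable {a b : L}

theorem weight_shift (hb1 : b * (b * a * b⁻¹) * b⁻¹ = a * (b * a * b⁻¹))
    (hb2 : b * (a * (b * a * b⁻¹)) * b⁻¹ = a) {u : W} (h : π a u = u)
    (h' : π (b * a * b⁻¹) u = -u) :
    π a (π b u) = -π b u ∧ π (b * a * b⁻¹) (π b u) = π b u ∧
      π a (π b (π b u)) = -π b (π b u) ∧ π (b * a * b⁻¹) (π b (π b u)) = -π b (π b u) := by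
  set a' := b * a * b⁻¹ with ha'
  have h'' : π (a * a') u = -u := by rw [apply_mul, h', map_neg, h]
  have e0 : ∀ {y z : L}, b * y * b⁻¹ = z → ∀ w, π z (π b w) = π b (π y w) := fun {y z} e w => by
    rw [← apply_mul π, ← apply_mul π, ← e, inv_mul_cancel_right]
  have k1 : π a (π b u) = -π b u := by rw [e0 hb2, h'', map_neg]
  have k2 : π a' (π b u) = π b u := by rw [e0 ha'.symm, h]
  refine ⟨k1, k2, ?_, ?_⟩
  · rw [e0 hb2, apply_mul, k2, k1, map_neg]
  · rw [e0 ha'.symm, k1, map_neg]

theorem wproj_weight (hb1 : b * (b * a * b⁻¹) * b⁻¹ = a * (b * a * b⁻¹))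
    (hb2 : b * (a * (b * a * b⁻¹)) * b⁻¹ = a) {u : W} (h : π a u = u)
    (h' : π (b * a * b⁻¹) u = -u) :
    wproj π a (b * a * b⁻¹) u = u ∧ wproj π a (b * a * b⁻¹) (π b u) = 0 ∧
      wproj π a (b * a * b⁻¹) (π b (π b u)) = 0 := by
  obtain ⟨k1, k2, k3, k4⟩ := weight_shift π hb1 hb2 h h'
  refine ⟨?_, ?_, ?_⟩
  · rw [wproj_apply, h, h']
    calc u + u - -u - -u = (u + u + u) + u := by abel
      _ = u := by rw [three_nsmul, zero_add]
  · rw [wproj_apply, k1, k2, map_neg, k2]; abel
  · rw [wproj_apply, k3, k4, map_neg, k4]; abel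

/-- The two images of a weight vector are independent modulo the fixed vectors. -/
theorem indep_of_weight (hb1 : b * (b * a * b⁻¹) * b⁻¹ = a * (b * a * b⁻¹))
    (hb2 : b * (a * (b * a * b⁻¹)) * b⁻¹ = a) {u : W} (hu : u ≠ 0) (h : π a u = u)
    (h' : π (b * a * b⁻¹) u = -u) {N : Submodule (ZMod 3) W}
    (hN : ∀ v ∈ N, π b⁻¹ v ∈ N) (hfix : ∀ v ∈ N, π a v = v ∧ π (b * a * b⁻¹) v = v)
    (α β : ZMod 3) {n : W} (hn : n ∈ N)
    (hsum : α • (π b u - u) + β • (π b (π b u) - π b u) + n = 0) : α = 0 ∧ β = 0 := by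
  obtain ⟨p1, p2, p3⟩ := wproj_weight π hb1 hb2 h h'
  have e := congrArg (wproj π a (b * a * b⁻¹)) hsum
  simp only [map_add, map_sub, map_smul, p1, p2, p3, map_zero, wproj_fixed π (hfix n hn).1 (hfix n hn).2,
    zero_sub, sub_zero, smul_zero, add_zero, smul_neg, neg_eq_zero] at e
  have hα : α = 0 := (smul_eq_zero.mp e).resolve_right hu
  refine ⟨hα, ?_⟩
  subst hα
  rw [zero_smul, zero_add] at hsum
  have e' := congrArg (fun w => wproj π a (b * a * b⁻¹) (π b⁻¹ w)) hsum
  simp only [map_add, map_sub, map_smul, apply_inv_apply, p1, p2, map_zero,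
    wproj_fixed π (hfix _ (hN n hn)).1 (hfix _ (hN n hn)).2,
    zero_sub, smul_zero, add_zero, smul_neg, neg_eq_zero] at e'
  exact (smul_eq_zero.mp e').resolve_right hu

/-- Three independent vectors in the image of `π b - 1` are too many. -/
theorem no_three [Finite W] (hrank : finrank (ZMod 3) (LinearMap.range (π b - 1)) ≤ 2)
    (f : Fin 3 → W) (hf : ∀ i, f i ∈ LinearMap.range (π b - 1))
    (hind : LinearIndependent (ZMod 3) f) : False := by
  haveI : Module.Finite (ZMod 3) W := Module.Finite.of_finite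
  let g : Fin 3 → LinearMap.range (π b - 1) := fun i => ⟨f i, hf i⟩
  have hg : LinearIndependent (ZMod 3) g :=
    LinearIndependent.of_comp (LinearMap.range (π b - 1)).subtype hind
  have := hg.fintype_card_le_finrank
  rw [Fintype.card_fin] at this
  omega

theorem linearIndependent_three {x y z : W}
    (h : ∀ α β γ : ZMod 3, α • x + β • y + γ • z = 0 → α = 0 ∧ β = 0 ∧ γ = 0) :
    LinearIndependent (ZMod 3) ![x, y, z] := by
  rw [Fintype.linearIndependent_iff]
  intro g hg i
  rw [Fin.sum_univ_three] at hg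
  obtain ⟨h1, h2, h3⟩ := h _ _ _ hg
  fin_cases i <;> assumption

theorem sub_one_apply (b : L) (v : W) : (π b - 1) v = π b v - v := rfl

theorem sub_one_mem (b : L) (v : W) : π b v - v ∈ LinearMap.range (π b - 1) := ⟨v, rfl⟩

namespace Setting

variable {L : Type*} [Group L] [Finite L] {W : Type*} [AddCommGroup W] [Module (ZMod 3) W]
  [Finite W] (S : Setting L W)

theorem exists_moved : ∃ v, ∃ x ∈ S.Q, S.π x v ≠ v := by
  obtain ⟨a, ha, ha1, -⟩ := S.exists_triple
  by_contra! hcon
  exact ha1 (S.faithful (LinearMap.ext fun v => by simp [hcon v a ha]))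

theorem bcube : (S.π S.b - 1) ^ 3 = 0 := by
  haveI : Nontrivial W := by
    obtain ⟨v, x, -, hx⟩ := S.exists_moved
    exact ⟨⟨_, _, hx⟩⟩
  haveI : CharP (Module.End (ZMod 3) W) 3 :=
    charP_of_injective_algebraMap (algebraMap (ZMod 3) (Module.End (ZMod 3) W)).injective 3
  haveI : Fact (Nat.Prime 3) := ⟨Nat.prime_three⟩
  rw [sub_pow_char_of_commute 3 (Commute.one_right (S.π S.b)), ← map_pow, S.b3, map_one, one_pow,
    sub_self]

/-- The square of `π b - 1` is nonzero and the space has dimension at least three. -/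
theorem sq_ne_zero : (S.π S.b - 1) ^ 2 ≠ 0 ∧ 3 ≤ finrank (ZMod 3) W := by
  haveI : Module.Finite (ZMod 3) W := Module.Finite.of_finite
  obtain ⟨v, hv⟩ := S.exists_moved
  obtain ⟨a, -, u, hu, -, h, h', -, -, hb1, hb2⟩ := S.exists_weight hv
  obtain ⟨p1, p2, p3⟩ := wproj_weight S.π hb1 hb2 h h'
  constructor
  · intro e
    have e1 := LinearMap.congr_fun e u
    rw [sq, Module.End.mul_apply, sub_one_apply, sub_one_apply, LinearMap.zero_apply, map_sub] at e1
    have e2 := congrArg (wproj S.π a (S.b * a * S.b⁻¹)) e1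
    simp only [map_sub, p1, p2, p3, map_zero, sub_zero, zero_sub, neg_neg] at e2
    exact hu e2
  · have hind : LinearIndependent (ZMod 3) ![u, S.π S.b u, S.π S.b (S.π S.b u)] := by
      refine linearIndependent_three fun α β γ hsum => ?_
      have e1 := congrArg (wproj S.π a (S.b * a * S.b⁻¹)) hsum
      simp only [map_add, map_smul, p1, p2, p3, smul_zero, add_zero, map_zero] at e1
      have hα : α = 0 := (smul_eq_zero.mp e1).resolve_right hu
      subst hα
      rw [zero_smul, zero_add] at hsum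
      have e2 := congrArg (fun w => wproj S.π a (S.b * a * S.b⁻¹) (S.π S.b⁻¹ w)) hsum
      simp only [map_add, map_smul, apply_inv_apply, p1, p2, smul_zero, add_zero, map_zero] at e2
      have hβ : β = 0 := (smul_eq_zero.mp e2).resolve_right hu
      subst hβ
      rw [zero_smul, zero_add] at hsum
      have e3 : γ • u = 0 := by
        have := congrArg (fun w => S.π S.b⁻¹ (S.π S.b⁻¹ w)) hsum
        simpa [apply_inv_apply] using this
      exact ⟨rfl, rfl, (smul_eq_zero.mp e3).resolve_right hu⟩
    simpa using hind.fintype_card_le_finrank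

/-- In dimension at least four the four-group fixes a nonzero vector. -/
theorem exists_Q_fixed (hn : 4 ≤ finrank (ZMod 3) W) :
    ∃ v : W, v ≠ 0 ∧ ∀ x ∈ S.Q, S.π x v = v := by
  haveI : Module.Finite (ZMod 3) W := Module.Finite.of_finite
  by_contra! hcon
  obtain ⟨v0, hv0⟩ := S.exists_moved
  obtain ⟨a, ha, u, hu, -, h, h', ha1, hne, hb1, hb2⟩ := S.exists_weight hv0
  have hall := S.eq_of_pair ha ha1 hne
  obtain ⟨p1, p2, p3⟩ := wproj_weight S.π hb1 hb2 h h'
  set a' := S.b * a * S.b⁻¹ with ha'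
  have ha'Q : a' ∈ S.Q := S.Qnorm a ha
  have inv2 : ∀ x ∈ S.Q, ∀ w, S.π x (S.π x w) = w := fun x hx w => by
    rw [← apply_mul S.π, ← sq, S.Qexp x hx, map_one, Module.End.one_apply]
  have hcomm : ∀ w, S.π a' (S.π a w) = S.π a (S.π a' w) := fun w => by
    rw [← apply_mul S.π, S.Qcomm a' ha'Q a ha, apply_mul]
  -- the weight space is the line through `u`
  have hline : ∀ w, S.π a w = w → S.π a' w = -w → w ∈ Submodule.span (ZMod 3) {u} := by
    intro w hw hw'
    by_contra hwu
    obtain ⟨q1, q2, -⟩ := wproj_weight S.π hb1 hb2 hw hw'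
    rw [← ha'] at q1 q2
    refine no_three S.π S.rank ![S.π S.b u - u, S.π S.b w - w, S.π S.b (S.π S.b u) - S.π S.b u]
      (fun i => by fin_cases i <;> exact sub_one_mem S.π _ _) (linearIndependent_three ?_)
    intro α β γ hsum
    have e1 := congrArg (wproj S.π a a') hsum
    simp only [map_add, map_sub, map_smul, p1, p2, p3, q1, q2, zero_sub, sub_zero, smul_zero,
      add_zero, map_zero, smul_neg] at e1
    rw [← neg_add, neg_eq_zero] at e1
    have hβ : β = 0 := by
      by_contra hβ
      apply hwu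
      rw [show w = (-(β⁻¹ * α)) • u by
        rw [neg_smul, mul_smul, eq_neg_iff_add_eq_zero]
        calc w + β⁻¹ • α • u = β⁻¹ • (α • u + β • w) := by
              rw [smul_add, inv_smul_smul₀ hβ, add_comm]
          _ = 0 := by rw [e1, smul_zero]]
      exact Submodule.smul_mem _ _ (Submodule.mem_span_singleton_self u)
    subst hβ
    rw [zero_smul, add_zero] at hsum e1
    have hα : α = 0 := (smul_eq_zero.mp e1).resolve_right hu
    subst hα
    rw [zero_smul, zero_add] at hsum
    have e2 := congrArg (fun w => wproj S.π a a' (S.π S.b⁻¹ w)) hsum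
    simp only [map_sub, map_smul, apply_inv_apply, p1, p2, zero_sub, smul_neg, map_zero,
      neg_eq_zero] at e2
    exact ⟨rfl, rfl, (smul_eq_zero.mp e2).resolve_right hu⟩
  -- every vector lies in the span of the three weight lines
  set T := Submodule.span (ZMod 3) (Set.range ![u, S.π S.b u, S.π S.b (S.π S.b u)]) with hT
  have huT : ∀ i, (![u, S.π S.b u, S.π S.b (S.π S.b u)]) i ∈ T := fun i =>
    Submodule.subset_span ⟨i, rfl⟩
  have hw : ∀ w, wproj S.π a a' w ∈ Submodule.span (ZMod 3) {u} := by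
    intro w
    refine hline _ ?_ ?_
    · simp only [wproj_apply, map_sub, map_add, inv2 a ha, ← hcomm]
      abel
    · simp only [wproj_apply, map_sub, map_add, inv2 a' ha'Q]
      abel
  have htop : T = ⊤ := by
    refine eq_top_iff.mpr fun w _ => ?_
    have e0 : ∀ {y z : L}, S.b * y * S.b⁻¹ = z → ∀ x, S.π z (S.π S.b x) = S.π S.b (S.π y x) :=
      fun {y z} e x => by rw [← apply_mul S.π, ← apply_mul S.π, ← e, inv_mul_cancel_right]
    have hbw : ∀ x, S.π S.b (wproj S.π a a' (S.π S.b⁻¹ x)) =
        wproj S.π a' (a * a') x := by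
      intro x
      simp only [wproj_apply, map_sub, map_add, ← e0 ha'.symm, ← e0 hb1, apply_apply_inv]
    have hbbw : ∀ x, S.π S.b (S.π S.b (wproj S.π a a' (S.π S.b⁻¹ (S.π S.b⁻¹ x)))) =
        wproj S.π (a * a') a x := by
      intro x
      rw [hbw]
      simp only [wproj_apply, map_sub, map_add, ← e0 hb1, ← e0 hb2, apply_apply_inv]
    have hmem0 : wproj S.π a a' w ∈ T := by
      obtain ⟨c, hc⟩ := Submodule.mem_span_singleton.mp (hw w)
      rw [← hc]; exact T.smul_mem _ (huT 0)
    have hmem1 : wproj S.π a' (a * a') w ∈ T := by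
      obtain ⟨c, hc⟩ := Submodule.mem_span_singleton.mp (hw (S.π S.b⁻¹ w))
      rw [← hbw, ← hc, map_smul]; exact T.smul_mem _ (huT 1)
    have hmem2 : wproj S.π (a * a') a w ∈ T := by
      obtain ⟨c, hc⟩ := Submodule.mem_span_singleton.mp (hw (S.π S.b⁻¹ (S.π S.b⁻¹ w)))
      rw [← hbbw, ← hc, map_smul, map_smul]; exact T.smul_mem _ (huT 2)
    have hfix : w + S.π a w + (S.π a' w + S.π (a * a') w) = 0 := by
      by_contra hne0
      obtain ⟨q, hq, hqne⟩ := hcon _ hne0
      apply hqne
      have hcl : ∀ v, S.π a v = v → S.π a' v = v → S.π q v = v := fun v hv1 hv2 => by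
        rcases hall q hq with rfl | rfl | rfl | rfl
        · simp
        · exact hv1
        · exact hv2
        · rw [apply_mul, hv2, hv1]
      refine hcl _ ?_ ?_
      · simp only [map_add, apply_mul, inv2 a ha]
        abel
      · simp only [map_add, apply_mul, inv2 a' ha'Q, hcomm]
        abel
    have hsum : w = wproj S.π a a' w + wproj S.π a' (a * a') w + wproj S.π (a * a') a w := by
      have e1 : S.π a' (S.π a w) = S.π (a * a') w := by rw [hcomm, ← apply_mul S.π]
      have e2 : S.π (a * a') (S.π a' w) = S.π a w := by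
        rw [← apply_mul S.π, mul_assoc, ← sq a', S.Qexp a' ha'Q, mul_one]
      have e3 : S.π a (S.π (a * a') w) = S.π a' w := by
        rw [← apply_mul S.π, ← mul_assoc, ← sq a, S.Qexp a ha, one_mul]
      simp only [wproj_apply, e1, e2, e3]
      calc w = (w + w + w) + (w + S.π a w + (S.π a' w + S.π (a * a') w)) - (w + w + w) -
              (S.π a w + S.π a' w + S.π (a * a') w) := by abel
        _ = (w + w + w) - (S.π a w + S.π a' w + S.π (a * a') w) := by
            rw [hfix, add_zero, three_nsmul, sub_zero]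
        _ = _ := by abel
    rw [hsum]
    exact T.add_mem (T.add_mem hmem0 hmem1) hmem2
  have := finrank_range_le_card (R := ZMod 3) ![u, S.π S.b u, S.π S.b (S.π S.b u)]
  rw [Set.finrank, ← hT, htop, finrank_top, Fintype.card_fin] at this
  omega

end Setting

end CfsgLib.CubicBlock
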